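import Groth.Agent.Sga3B.MT.MemAt
import Groth.Agent.Sga3B.RedIso
import Groth.Agent.Sga3B.CentRep
import Groth.Agent.Desc.LocalRep
import Groth.Agent.Ega2.QuasiAffine

/-!
# fpqc descent of (not necessarily closed) subgroup schemes, quasi-affine over the base

`f : S' ⟶ S` a flat surjective morphism such that every affine open of `S` is the image of a quasi-compact
open of `S'`, `t : T ⟶ bc f H` a monomorphism with `T` quasi-affine over `S'`, compatible with the
descent datum (`Compat`): `T` comes from a subobject of `H`.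
-/

set_option autoImplicit false
set_option backward.isDefEq.respectTransparency false
set_option backward.isDefEq.respectTransparency.types false
universe u
open CategoryTheory MonoidalCategory CartesianMonoidalCategory MonObj GrpObj AlgebraicGeometry Limits Opposite

namespace Groth.Agent.Sga3.H799.DescSub

open Groth.Agent.Sga3B Groth.Agent.Sga3B.BcPts Groth.Agent.Sga3B.MT
  Groth.Agent.Desc.SecFunctor Groth.Agent.Desc.SecPresheaf
  Groth.Agent.Desc.SecDescent Groth.Agent.Picfga.OverRep Groth.Agent.Desc.ZarGlue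

variable {S S' : Scheme.{u}} {f : S' ⟶ S} {H : Over S} {T : Over S'} (t : T ⟶ Red.bc f H)

/-- `MemAt` for a monomorphism descends along fpqc morphisms. -/
lemma memAt_of_fpqc [Mono t] {X' X : Over S} (h : X' ⟶ X) [Flat h.left]
    [Surjective h.left] [QuasiCompact h.left] {a : X ⟶ Over.mk f} {g : X ⟶ H}
    (H1 : MemAt t (h ≫ a) (h ≫ g)) : MemAt t a g := by
  have hm : Mono t.left := inferInstance
  obtain ⟨x, hx⟩ := (memAt_iff t _ _).1 H1
  rw [bcPt_comp] at hx
  have hx' : x.left ≫ t.left = h.left ≫ (bcPt a g).left := congrArg (fun z => z.left) hx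
  have : Epi h.left := Flat.epi_of_flat_of_surjective h.left
  let y : X.left ⟶ T.left := EffectiveEpi.desc h.left x.left (by
    intro Z z₀ z₁ hz
    rw [← cancel_mono t.left, Category.assoc, Category.assoc, hx', ← Category.assoc, ← Category.assoc, hz])
  have hy : h.left ≫ y = x.left := EffectiveEpi.fac _ _ _
  have hy' : y ≫ t.left = (bcPt a g).left := by
    rw [← cancel_epi h.left, ← Category.assoc, hy, hx']
  refine (memAt_iff t _ _).2 ⟨Over.homMk y ?_, ?_⟩
  · rw [← Over.w t, ← Category.assoc, hy', Over.w]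
  · ext1
    exact hy'

/-- `MemAt` is Zariski local. -/
lemma memAt_of_cov [Mono t] {X : Over S} (𝒰 : Cov X) {a : X ⟶ Over.mk f} {g : X ⟶ H}
    (h : ∀ i, MemAt t (𝒰.j i ≫ a) (𝒰.j i ≫ g)) : MemAt t a g := by
  refine MemAt.of_cover a g 𝒰.openCover fun i => ?_
  let e : Over.mk (𝒰.openCover.f i ≫ X.hom) ⟶ 𝒰.V i := Over.homMk (𝟙 _) (by
    change 𝟙 _ ≫ (𝒰.V i).hom = (𝒰.j i).left ≫ X.hom
    rw [Category.id_comp, Over.w])
  have he : (Over.homMk (𝒰.openCover.f i) : Over.mk (𝒰.openCover.f i ≫ X.hom) ⟶ X) = e ≫ 𝒰.j i := by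
    ext1
    change (𝒰.j i).left = 𝟙 _ ≫ (𝒰.j i).left
    rw [Category.id_comp]
  rw [he, Category.assoc, Category.assoc]
  exact (h i).comp e

/-- The condition on points of `H` defined by `t`. -/
def Cond (X : Over S) (g : X ⟶ H) : Prop :=
  ∀ (X' : Over S) (h : X' ⟶ X) (a : X' ⟶ Over.mk f), MemAt t a (h ≫ g)

/-- Compatibility with the descent datum. -/
def Compat : Prop :=
  ∀ (X : Over S) (a b : X ⟶ Over.mk f) (g : X ⟶ H), MemAt t a g → MemAt t b g

variable {t}

lemma Cond.comp {X X' : Over S} {g : X ⟶ H} (h : Cond t X g) (k : X' ⟶ X) : Cond t X' (k ≫ g) := by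
  intro Y y a
  have := h Y (y ≫ k) a
  rwa [Category.assoc] at this

lemma cond_of_memAt (hc : Compat t) {X : Over S} (a : X ⟶ Over.mk f) {g : X ⟶ H} (h : MemAt t a g) :
    Cond t X g :=
  fun _ k b => hc _ (k ≫ a) b _ (h.comp k)

lemma cond_of_fpqc [Mono t] {X' X : Over S} (k : X' ⟶ X) [Flat k.left] [Surjective k.left]
    [QuasiCompact k.left] {g : X ⟶ H} (hg : Cond t X' (k ≫ g)) : Cond t X g := by
  intro Y y a
  let r : Over.mk (pullback.fst y.left k.left ≫ Y.hom) ⟶ Y := Over.homMk (pullback.fst y.left k.left)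
  let q : Over.mk (pullback.fst y.left k.left ≫ Y.hom) ⟶ X' :=
    Over.homMk (pullback.snd y.left k.left) (by
      change pullback.snd y.left k.left ≫ X'.hom = pullback.fst y.left k.left ≫ Y.hom
      rw [← Over.w k, ← Category.assoc, ← pullback.condition, Category.assoc, Over.w])
  have e : r ≫ y = q ≫ k := by
    ext1
    exact pullback.condition
  have : Flat r.left := inferInstanceAs (Flat (pullback.fst y.left k.left))
  have : Surjective r.left := inferInstanceAs (Surjective (pullback.fst y.left k.left))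
  have : QuasiCompact r.left := inferInstanceAs (QuasiCompact (pullback.fst y.left k.left))
  refine memAt_of_fpqc t r (a := a) (g := y ≫ g) ?_
  rw [← Category.assoc, e, Category.assoc]
  exact hg _ q _

lemma cond_of_cov [Mono t] {X : Over S} (𝒰 : Cov X) {g : X ⟶ H} (hg : ∀ i, Cond t (𝒰.V i) (𝒰.j i ≫ g)) :
    Cond t X g := by
  intro Y y a
  let 𝒱 : Cov Y :=
    { «ι» := 𝒰.ι
      V := fun i => Over.mk (pullback.fst y.left (𝒰.j i).left ≫ Y.hom)
      j := fun i => Over.homMk (pullback.fst y.left (𝒰.j i).left)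
      isOpen := fun i => by
        change IsOpenImmersion (pullback.fst y.left (𝒰.j i).left)
        infer_instance
      covers := fun p => by
        obtain ⟨i, v, hv⟩ := 𝒰.covers (y.left p)
        obtain ⟨w, hw, -⟩ := Scheme.Pullback.exists_preimage_pullback (f := y.left) (g := (𝒰.j i).left)
          p v hv.symm
        exact ⟨i, w, hw⟩ }
  refine memAt_of_cov t 𝒱 fun i => ?_
  let q : 𝒱.V i ⟶ 𝒰.V i :=
    Over.homMk (pullback.snd y.left (𝒰.j i).left) (by
      change pullback.snd y.left (𝒰.j i).left ≫ (𝒰.V i).hom = pullback.fst y.left (𝒰.j i).left ≫ Y.hom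
      rw [← Over.w (𝒰.j i), ← Category.assoc, ← pullback.condition, Category.assoc, Over.w])
  have e : 𝒱.j i ≫ y = q ≫ 𝒰.j i := by
    ext1
    exact pullback.condition
  rw [← Category.assoc, e, Category.assoc]
  exact hg i _ q _

variable (t)

/-- The functor of points satisfying the condition. -/
def condF : (Over S)ᵒᵖ ⥤ Type u where
  obj X := {x : X.unop ⟶ H // Cond t X.unop x}
  map f := ↾fun x => ⟨f.unop ≫ x.1, x.2.comp _⟩
  map_id _ := ConcreteCategory.hom_ext _ _ fun _ => Subtype.ext (Category.id_comp _)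
  map_comp _ _ := ConcreteCategory.hom_ext _ _ fun _ => Subtype.ext (Category.assoc _ _ _)

theorem isZarSheaf_condF [Mono t] : IsZarSheaf (condF t) := by
  intro T 𝒰 x hx
  obtain ⟨y, hy⟩ := glue_hom T H 𝒰 (fun i => (x i).1) fun i k W a b hab =>
    congrArg Subtype.val (hx i k W a b hab)
  have hy' : Cond t T y := cond_of_cov 𝒰 fun i => by
    rw [hy]
    exact (x i).2
  refine ⟨⟨y, hy'⟩, fun i => Subtype.ext (hy i), fun z hz => Subtype.ext ?_⟩
  refine hom_ext_cover T H 𝒰 _ _ fun i => ?_
  rw [hy i]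
  exact congrArg Subtype.val (hz i)

theorem isDesc_condF [Mono t] {T' T : Over S} (g : T' ⟶ T) [Flat g.left] [Surjective g.left]
    [QuasiCompact g.left] : IsDesc (condF t) g := by
  have : Epi g.left := Flat.epi_of_flat_of_surjective g.left
  constructor
  · intro a b hab
    have h1 : g ≫ a.1 = g ≫ b.1 := congrArg Subtype.val hab
    apply Subtype.ext
    ext1
    rw [← cancel_epi g.left]
    exact congrArg (fun f => f.left) h1
  · intro a ha
    have h1 : ∀ {Z : Scheme.{u}} (z₀ z₁ : Z ⟶ T'.left), z₀ ≫ g.left = z₁ ≫ g.left →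
        z₀ ≫ a.1.left = z₁ ≫ a.1.left := by
      intro Z z₀ z₁ hz
      have hz' : z₁ ≫ T'.hom = z₀ ≫ T'.hom := by
        rw [← Over.w g, ← Category.assoc, ← hz, Category.assoc]
      have h2 := ha (Over.mk (z₀ ≫ T'.hom)) (Over.homMk z₀ rfl) (Over.homMk z₁ hz')
        (by ext1; exact hz)
      exact congrArg (fun f => f.1.left) h2
    let y₀ : T.left ⟶ H.left := EffectiveEpi.desc g.left a.1.left h1
    have hy₀ : g.left ≫ y₀ = a.1.left := EffectiveEpi.fac _ _ _
    let y : T ⟶ H := Over.homMk y₀ (by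
      rw [← cancel_epi g.left, ← Category.assoc, hy₀, Over.w, Over.w])
    have hy : g ≫ y = a.1 := by
      ext1
      exact hy₀
    have hy' : Cond t T y := cond_of_fpqc g (by rw [hy]; exact a.2)
    exact ⟨⟨y, hy'⟩, Subtype.ext hy⟩

variable {t}

/-- Over `S'` the functor is represented by `T`. -/
noncomputable def repCond [Mono t] (hc : Compat t) : (restr f (condF t)).RepresentableBy T where
  homEquiv {X} :=
    { toFun := fun x => ⟨(bcEquiv f X H).symm (x ≫ t),
        cond_of_memAt hc (MemAt.strHom f X) ((MemAt.iff_of_over t X _).2 ⟨x, rfl⟩)⟩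
      invFun := fun g => ((MemAt.iff_of_over t X (bcEquiv f X H g.1)).1 (by
        have h := g.2 _ (𝟙 _) (MemAt.strHom f X)
        rw [Category.id_comp] at h
        rw [Equiv.symm_apply_apply]
        exact h)).choose
      left_inv := fun x => by
        have h := (MemAt.iff_of_over t X (bcEquiv f X H ((bcEquiv f X H).symm (x ≫ t)))).1 (by
          rw [Equiv.symm_apply_apply]
          exact (MemAt.iff_of_over t X _).2 ⟨x, rfl⟩)
        have h2 := h.choose_spec
        rw [← cancel_mono t]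
        exact h2.trans (Equiv.apply_symm_apply _ _)
      right_inv := fun g => by
        have h := (MemAt.iff_of_over t X (bcEquiv f X H g.1)).1 (by
          have h := g.2 _ (𝟙 _) (MemAt.strHom f X)
          rw [Category.id_comp] at h
          rw [Equiv.symm_apply_apply]
          exact h)
        apply Subtype.ext
        change (bcEquiv f X H).symm (h.choose ≫ t) = g.1
        rw [h.choose_spec, Equiv.symm_apply_apply] }
  homEquiv_comp {X X'} h x := by
    apply Subtype.ext
    change (bcEquiv f X H).symm ((h ≫ x) ≫ t) = (Over.map f).map h ≫ (bcEquiv f X' H).symm (x ≫ t)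
    rw [Category.assoc, comp_bcEquiv_symm]

/-- Representability. -/
theorem exists_rep [Mono t] (hc : Compat t) [Flat f] [Surjective f]
    (hf : ∀ V : S.Opens, IsAffineOpen V → ∃ W : S'.Opens, IsCompact (W : Set S') ∧
      f.base '' (W : Set S') = (V : Set S)) (hT : Mor2.IsQuasiAffine T.hom) :
    ∃ P : Over S, Nonempty ((condF t).RepresentableBy P) := by
  have key : ∀ s : S, ∃ V : S.Opens, s ∈ V ∧ ∃ E : Over V.toScheme,
      Nonempty ((restr V.ι (condF t)).RepresentableBy E) := by
    intro s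
    obtain ⟨V, hV, hsV⟩ : ∃ V : S.Opens, IsAffineOpen V ∧ s ∈ V := by
      obtain ⟨_, ⟨V, hV, rfl⟩, hsV, -⟩ :=
        S.isBasis_affineOpens.exists_subset_of_mem_open (Set.mem_univ s) isOpen_univ
      exact ⟨V, hV, hsV⟩
    refine ⟨V, hsV, ?_⟩
    obtain ⟨W, hW, hWV⟩ := hf V hV
    have hle : W ≤ f ⁻¹ᵁ V := by
      intro w hw
      have : f.base w ∈ f.base '' (W : Set S') := ⟨w, hw, rfl⟩
      rw [hWV] at this
      exact this
    have : IsAffine V := hV
    have : CompactSpace W := isCompact_iff_compactSpace.mp hW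
    let q : W.toScheme ⟶ V.toScheme := f.resLE V W hle
    have hq : q ≫ V.ι = W.ι ≫ f := f.resLE_comp_ι hle
    have hflat : Flat q := inferInstance
    have hqc : QuasiCompact q := inferInstance
    have hsurj : Surjective q := by
      constructor
      rintro ⟨v, hv⟩
      have : v ∈ f.base '' (W : Set S') := by rw [hWV]; exact hv
      obtain ⟨w, hw, rfl⟩ := this
      refine ⟨⟨w, hw⟩, ?_⟩
      apply Subtype.ext
      simp [q]
    have hsh : IsPSheaf q (restr V.ι (condF t)) := by
      intro T₂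
      apply IsDesc.restr
      have h1 : Flat ((Over.map V.ι).map (projT q T₂)).left := by
        change Flat (pullback.snd q T₂.hom)
        infer_instance
      have h2 : Surjective ((Over.map V.ι).map (projT q T₂)).left := by
        change Surjective (pullback.snd q T₂.hom)
        infer_instance
      have h3 : QuasiCompact ((Over.map V.ι).map (projT q T₂)).left := by
        change QuasiCompact (pullback.snd q T₂.hom)
        infer_instance
      exact isDesc_condF t _
    have hE' : Mor2.IsQuasiAffine ((Over.pullback W.ι).obj T).hom :=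
      Ega2.QuasiAffine.qaff_baseChange T.hom hT W.ι
    have e := pullRep W.ι (repCond hc)
    obtain ⟨U₀, hU₀, -⟩ := Groth.Agent.Desc.LocalRep.exists_rep_of_fpqc q hsh
      ((Over.pullback W.ι).obj T) hE'
      (e.ofIso (restrCompIso rfl (condF t) ≪≫ (restrCompIso hq (condF t)).symm))
    exact ⟨U₀, hU₀⟩
  choose V hV E hE using key
  obtain ⟨P, hP, -⟩ := exists_rep_of_openCover V (fun s => ⟨s, hV s⟩) E (fun s => (hE s).some)
    (isZarSheaf_condF t)
  exact ⟨P, hP⟩

/-- The representing subobject. -/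
theorem exists_sub [Mono t] (hc : Compat t) [Flat f] [Surjective f]
    (hf : ∀ V : S.Opens, IsAffineOpen V → ∃ W : S'.Opens, IsCompact (W : Set S') ∧
      f.base '' (W : Set S') = (V : Set S)) (hT : Mor2.IsQuasiAffine T.hom) :
    ∃ (P : Over S) (p : P ⟶ H), Mono p ∧ ∀ (X : Over S) (g : X ⟶ H),
      (∃ x : X ⟶ P, x ≫ p = g) ↔ Cond t X g := by
  obtain ⟨P, ⟨r⟩⟩ := exists_rep hc hf hT
  let p : P ⟶ H := (r.homEquiv (𝟙 P)).1
  have hp : ∀ {X : Over S} (x : X ⟶ P), (r.homEquiv x).1 = x ≫ p := by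
    intro X x
    have h1 := r.homEquiv_comp x (𝟙 P)
    rw [Category.comp_id] at h1
    rw [h1]
    rfl
  refine ⟨P, p, ⟨fun a b hab => ?_⟩, fun X g => ⟨?_, fun hg => ?_⟩⟩
  · rw [← hp, ← hp] at hab
    exact r.homEquiv.injective (Subtype.ext hab)
  · rintro ⟨x, rfl⟩
    rw [← hp]
    exact (r.homEquiv x).2
  · refine ⟨r.homEquiv.symm ⟨g, hg⟩, ?_⟩
    rw [← hp, Equiv.apply_symm_apply]

/-- **fpqc descent of subgroups**. -/
theorem exists_subgroup [GrpObj H] [GrpObj T] [IsMonHom t] [Mono t] (hc : Compat t) [Flat f] [Surjective f]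
    (hf : ∀ V : S.Opens, IsAffineOpen V → ∃ W : S'.Opens, IsCompact (W : Set S') ∧
      f.base '' (W : Set S') = (V : Set S)) (hT : Mor2.IsQuasiAffine T.hom) :
    ∃ (P : Over S) (_ : GrpObj P) (p : P ⟶ H), IsMonHom p ∧ Mono p ∧
      (∀ (X : Over S) (g : X ⟶ H), (∃ x : X ⟶ P, x ≫ p = g) ↔ Cond t X g) ∧
      ∃ e : Grp.mk T ≅ Grp.mk (Red.bc f P),
        (RedIso.und e).hom ≫ (Over.pullback f).map p = t := by
  obtain ⟨P, p, hp, hP⟩ := exists_sub hc hf hT
  let K : ∀ X : Over S, Subgroup (X ⟶ H) := fun X =>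
    { carrier := {g | Cond t X g}
      mul_mem' := fun {x y} hx hy X' h a => by rw [MonObj.comp_mul]; exact (hx X' h a).mul (hy X' h a)
      one_mem' := fun X' h a => by rw [MonObj.comp_one]; exact MemAt.one a
      inv_mem' := fun {x} hx X' h a => by rw [GrpObj.comp_inv]; exact (hx X' h a).inv }
  obtain ⟨_, hpm⟩ := CentRep.exists_grpObj p K hP
  refine ⟨P, inferInstance, p, hpm, hp, hP, ?_⟩
  have key : ∀ (X : Over S') (g : X ⟶ Red.bc f H),
      (∃ x : X ⟶ T, x ≫ t = g) ↔ ∃ x : X ⟶ Red.bc f P, x ≫ (Over.pullback f).map p = g := by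
    intro X g
    have h1 : (∃ x : X ⟶ T, x ≫ t = g) ↔ Cond t ((Over.map f).obj X) ((bcEquiv f X H).symm g) := by
      rw [← MemAt.iff_of_over]
      refine ⟨fun h => cond_of_memAt hc _ h, fun h => ?_⟩
      have := h _ (𝟙 _) (MemAt.strHom f X)
      rwa [Category.id_comp] at this
    rw [h1, ← hP]
    constructor
    · rintro ⟨x, hx⟩
      exact ⟨bcEquiv f X P x, by rw [← bcEquiv_comp, hx, Equiv.apply_symm_apply]⟩
    · rintro ⟨x, hx⟩
      exact ⟨(bcEquiv f X P).symm x, by rw [← bcEquiv_symm_comp, hx]⟩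
  have hm' : Mono ((Over.pullback f).map p) := inferInstance
  obtain ⟨u, hu⟩ := (key T t).1 ⟨𝟙 _, Category.id_comp _⟩
  obtain ⟨v, hv⟩ := (key (Red.bc f P) ((Over.pullback f).map p)).2 ⟨𝟙 _, Category.id_comp _⟩
  have huv : u ≫ v = 𝟙 _ := by rw [← cancel_mono t, Category.assoc, hv, hu, Category.id_comp]
  have hvu : v ≫ u = 𝟙 _ := by
    rw [← cancel_mono ((Over.pullback f).map p), Category.assoc, hu, hv, Category.id_comp]
  let e : T ≅ Red.bc f P := ⟨u, v, huv, hvu⟩
  have hmon : IsMonHom u := Pts.isMonHom_of_points u fun X x y => by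
    rw [← cancel_mono ((Over.pullback f).map p)]
    simp only [Category.assoc, hu, MonObj.mul_comp]
  have : IsMonHom e.hom := hmon
  exact ⟨Grp.mkIso' e, hu⟩

end Groth.Agent.Sga3.H799.DescSub
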