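import Groth.Agent.Sga3.H799.Cart
import Groth.Agent.Sga3.H799.DescSub
import Groth.Agent.Sga3.H798.SubTorus
import Groth.Agent.Sga3B.MT.MemOps

/-!
# Uniqueness of the maximal torus contained in a Cartan subgroup
-/

set_option autoImplicit false
universe u
open CategoryTheory MonoidalCategory CartesianMonoidalCategory MonObj GrpObj AlgebraicGeometry Limits

namespace Groth.Agent.Sga3.H799.Uniq

open Groth.Agent.Sga3B Groth.Agent.Sga3B.RedIso Groth.Agent.Sga3B.BcNat Groth.Agent.Sga3B.MT
  Groth.Agent.Sga3.H799.Bc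

variable {S S' : Scheme.{u}}

/-- **Uniqueness**: a Cartan subgroup contains at most one maximal torus. -/
theorem exists_factor {G C T R : Over S} [GrpObj G] [GrpObj C] [GrpObj T] [GrpObj R] [Smooth G.hom]
    [IsSeparated G.hom] (c : C ⟶ G) (hc : SGA3x.IsCartan c) (i : T ⟶ G) (hi : Red.IsMaximalTorus i)
    (t : T ⟶ C) (ht : t ≫ c = i) (j : R ⟶ G) (hj : Red.IsMaximalTorus j) (r : R ⟶ C) (hr : r ≫ c = j) :
    ∃ φ : R ⟶ T, φ ≫ i = j := by
  have := hi.1
  have := hi.2.1
  have := hj.1
  have := hj.2.1
  have hcomm : ∀ (X : Over S) (a : X ⟶ T) (b : X ⟶ R), (a ≫ i) * (b ≫ j) = (b ≫ j) * (a ≫ i) := by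
    intro X a b
    have h1 := ((Cart.isCentralizerOf_of_factor c hc i hi t ht).2.2 X ((b ≫ r) ≫ c)).1 ⟨_, rfl⟩ X (𝟙 X) a
    rw [Category.id_comp, Category.assoc, hr] at h1
    exact h1.symm
  refine H798.SubTorus.exists_factor i j hi.2.2.1 hj.2.2.1 hcomm
    (H798.SubTorus.fibLe_of_geomFibre fun s => ?_)
  exact H784.NAMain.exists_factor_of_commute _ (isMaximalTorus_bc (Red.geomPt s) hi) _
    (TorusBc.isTorus_bc _ hj.2.2.1) (fun a b => (H798.SubTorus.comm_bc (Red.geomPt s) j i hcomm) _ a b)

lemma fibIso_left {T T' : Scheme.{u}} {θ : T' ⟶ T} {g : T ⟶ S} {g' : T' ⟶ S'} {f : S' ⟶ S}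
    (h : θ ≫ g = g' ≫ f) (G : Over S) [GrpObj G] :
    (und (fibIso h G)).hom.left ≫ pullback.fst (Red.bc g G).hom θ ≫ pullback.fst G.hom g =
      pullback.fst (Red.bc f G).hom g' ≫ pullback.fst G.hom f := by
  have e : (und (fibIso h G)).hom.left = (und (BcIso.bcCompIso g' f G)).inv.left ≫
      (und (BcIso.bcCongrIso h.symm G)).hom.left ≫ (und (BcIso.bcCompIso θ g G)).hom.left := rfl
  rw [e, Category.assoc, Category.assoc]
  have h1 := SplitBc264.bcCompIso_left θ g G
  have h2 := SplitBc264.bcCongrIso_left h.symm G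
  have h3 := SplitBc264.bcCompIso_left g' f G
  have h4 : (und (BcIso.bcCompIso g' f G)).inv.left ≫ (und (BcIso.bcCompIso g' f G)).hom.left = 𝟙 _ := by
    rw [← Over.comp_left, Iso.inv_hom_id, Over.id_left]
  change (und (BcIso.bcCompIso g' f G)).inv.left ≫ (und (BcIso.bcCongrIso h.symm G)).hom.left ≫
    (BcIso.bcCompIso θ g G).hom.hom.hom.left ≫ _ = _
  rw [h1]
  change (und (BcIso.bcCompIso g' f G)).inv.left ≫ (BcIso.bcCongrIso h.symm G).hom.hom.hom.left ≫ _ = _
  rw [h2, ← h3, ← Category.assoc]
  exact (congrArg (· ≫ _) h4).trans (Category.id_comp _)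

/-- The maximal torus contained in a Cartan subgroup is compatible with descent data. -/
theorem compat {f : S' ⟶ S} {G C : Over S} [GrpObj G] [GrpObj C] [Smooth G.hom] [IsSeparated G.hom]
    (c : C ⟶ G) (hc : SGA3x.IsCartan c) {T' : Over S'} [GrpObj T'] (i' : T' ⟶ Red.bc f G)
    (hi' : Red.IsMaximalTorus i') (t' : T' ⟶ Red.bc f C) (ht' : t' ≫ (Over.pullback f).map c = i') :
    DescSub.Compat t' := by
  intro X a b g hg
  have hci := hc.1
  have hcm := hc.2.1
  have h : b.left ≫ f = a.left ≫ f := (Over.w b).trans (Over.w a).symm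
  have hw : t' ≫ (Over.pullback f).map c = i' := ht'
  let t₁ := (Over.pullback a.left).map t' ≫ (und (fibIso h C)).hom
  let i₁ := (Over.pullback a.left).map i' ≫ (und (fibIso h G)).hom
  have hi₁ : Red.IsMaximalTorus i₁ :=
    AlgBc.isMaximalTorus_of_arrow (Iso.refl _) (fibIso h G) (Category.id_comp _).symm
      (isMaximalTorus_bc a.left hi')
  have hc₂ := isCartan_bc b.left (isCartan_bc f hc)
  have hti : t₁ ≫ (Over.pullback b.left).map ((Over.pullback f).map c) = i₁ := by
    change ((Over.pullback a.left).map t' ≫ (und (fibIso h C)).hom) ≫ _ =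
      (Over.pullback a.left).map i' ≫ (und (fibIso h G)).hom
    rw [Category.assoc, ← fib_nat, ← Category.assoc, ← Functor.map_comp, ht']
  obtain ⟨φ, hφ⟩ := exists_factor ((Over.pullback b.left).map ((Over.pullback f).map c)) hc₂
    ((Over.pullback b.left).map i') (isMaximalTorus_bc b.left hi') ((Over.pullback b.left).map t')
    (by rw [← Functor.map_comp, ht']) i₁ hi₁ t₁ hti
  have hφt : φ ≫ (Over.pullback b.left).map t' = t₁ := by
    have hm : Mono ((Over.pullback b.left).map ((Over.pullback f).map c)) := inferInstance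
    rw [← cancel_mono ((Over.pullback b.left).map ((Over.pullback f).map c)), Category.assoc,
      ← Functor.map_comp, ht', hφ, hti]
  rw [memAt_iff'] at hg ⊢
  obtain ⟨x, hx1, hx2⟩ := hg
  let σ : X.left ⟶ pullback T'.hom a.left := pullback.lift x (𝟙 _) (by rw [hx1, Category.id_comp])
  have hσ1 : σ ≫ pullback.fst T'.hom a.left = x := pullback.lift_fst _ _ _
  have hσ2 : σ ≫ pullback.snd T'.hom a.left = 𝟙 _ := pullback.lift_snd _ _ _
  refine ⟨σ ≫ φ.left ≫ pullback.fst T'.hom b.left, ?_, ?_⟩
  · rw [Category.assoc, Category.assoc, pullback.condition, ← Category.assoc φ.left]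
    have h1 : φ.left ≫ pullback.snd T'.hom b.left = pullback.snd T'.hom a.left := Over.w φ
    rw [h1, ← Category.assoc, hσ2, Category.id_comp]
  · have h2 : pullback.fst T'.hom b.left ≫ t'.left =
        ((Over.pullback b.left).map t').left ≫ pullback.fst (pullback.snd C.hom f) b.left :=
      (H798.FpqcIso.isPullback_map_left b.left t').w
    have h3 : pullback.fst T'.hom a.left ≫ t'.left =
        ((Over.pullback a.left).map t').left ≫ pullback.fst (pullback.snd C.hom f) a.left :=
      (H798.FpqcIso.isPullback_map_left a.left t').w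
    have h4 : φ.left ≫ ((Over.pullback b.left).map t').left =
        ((Over.pullback a.left).map t').left ≫ (und (fibIso h C)).hom.left :=
      congrArg (fun z => z.left) hφt
    have h5 := fibIso_left h C
    calc (σ ≫ φ.left ≫ pullback.fst T'.hom b.left) ≫ t'.left ≫ pullback.fst C.hom f
        = σ ≫ φ.left ≫ (pullback.fst T'.hom b.left ≫ t'.left) ≫ pullback.fst C.hom f := by
          simp only [Category.assoc]
      _ = σ ≫ (φ.left ≫ ((Over.pullback b.left).map t').left) ≫ pullback.fst (pullback.snd C.hom f) b.left ≫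
            pullback.fst C.hom f := by
          rw [h2]
          simp only [Category.assoc]
      _ = σ ≫ ((Over.pullback a.left).map t').left ≫ (und (fibIso h C)).hom.left ≫
            pullback.fst (pullback.snd C.hom f) b.left ≫ pullback.fst C.hom f := by
          rw [h4]
          simp only [Category.assoc]
      _ = σ ≫ (((Over.pullback a.left).map t').left ≫ pullback.fst (pullback.snd C.hom f) a.left) ≫
            pullback.fst C.hom f := by
          erw [h5]
          simp only [Category.assoc]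
          rfl
      _ = (σ ≫ pullback.fst T'.hom a.left) ≫ t'.left ≫ pullback.fst C.hom f := by
          rw [← h3]
          simp only [Category.assoc]
      _ = g.left := by rw [hσ1, hx2]

end Groth.Agent.Sga3.H799.Uniq
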