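import Groth.Agent.Sga3.H799.Cover
import Groth.Agent.Sga3.H799.Uniq

/-!
# Cartan subgroups are centralizers of maximal tori

`G` smooth separated quasi-compact with a maximal torus fpqc-locally on the base: every Cartan subgroup
is the centralizer of a maximal torus of `G`.
-/

set_option autoImplicit false
universe u
open CategoryTheory MonoidalCategory CartesianMonoidalCategory MonObj GrpObj AlgebraicGeometry Limits

namespace Groth.Agent.Sga3.H799.Main

open Groth.Agent.Sga3B Groth.Agent.Sga3B.RedIso Groth.Agent.Sga3B.BcNat Groth.Agent.Sga3.H799.Bc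

variable {S S' : Scheme.{u}}

lemma quasiAffine_of_affine {X Y : Scheme.{u}} (f : X ⟶ Y) [IsAffineHom f] : Mor2.IsQuasiAffine f := by
  refine ⟨inferInstance, fun O hO => ?_⟩
  have : IsAffine (f ⁻¹ᵁ O : Scheme.{u}) := hO.preimage f
  infer_instance

/-- Composition of an fpqc cover with a quasi-compact surjective morphism. -/
lemma cover_comp {P : Scheme.{u}} (g : P ⟶ S') [QuasiCompact g] [Surjective g] (f : S' ⟶ S)
    (hf : ∀ V : S.Opens, IsAffineOpen V → ∃ W : S'.Opens, IsCompact (W : Set S') ∧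
      f.base '' (W : Set S') = (V : Set S)) :
    ∀ V : S.Opens, IsAffineOpen V → ∃ W : P.Opens, IsCompact (W : Set P) ∧
      (g ≫ f).base '' (W : Set P) = (V : Set S) := by
  intro V hV
  obtain ⟨W, hW, hWV⟩ := hf V hV
  refine ⟨g ⁻¹ᵁ W, QuasiCompact.isCompact_preimage (W : Set S') W.isOpen hW, ?_⟩
  have e : (g ≫ f).base = f.base ∘ g.base := by ext x; simp
  rw [e, Set.image_comp]
  have : g.base '' (g ⁻¹ᵁ W : Set P) = (W : Set S') := by
    change g.base '' (g.base ⁻¹' (W : Set S')) = _
    rw [Set.image_preimage_eq_of_subset]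
    rintro x -
    exact g.surjective x
  rw [this, hWV]

/-- The maximal torus contained in a Cartan subgroup exists as soon as it exists fpqc-locally. -/
theorem descend {G C : Over S} [GrpObj G] [GrpObj C] [Smooth G.hom] [IsSeparated G.hom]
    (c : C ⟶ G) (hc : SGA3x.IsCartan c) (f : S' ⟶ S) [Flat f] [Surjective f]
    (hf : ∀ V : S.Opens, IsAffineOpen V → ∃ W : S'.Opens, IsCompact (W : Set S') ∧
      f.base '' (W : Set S') = (V : Set S)) {T' : Over S'} [GrpObj T'] (i' : T' ⟶ Red.bc f G)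
    (hi' : Red.IsMaximalTorus i') (t' : T' ⟶ Red.bc f C) (ht' : t' ≫ (Over.pullback f).map c = i') :
    ∃ (T : Over S) (_ : GrpObj T) (t : T ⟶ C), Red.IsMaximalTorus (t ≫ c) := by
  have hci := hc.1
  have hcm := hc.2.1
  have h1 := hi'.1
  have h2 := hi'.2.1
  have hmt : Mono t' := by
    have : Mono (t' ≫ (Over.pullback f).map c) := by rw [ht']; infer_instance
    exact mono_of_mono t' ((Over.pullback f).map c)
  have hht : IsMonHom t' := by
    have : IsMonHom (t' ≫ (Over.pullback f).map c) := by rw [ht']; infer_instance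
    exact MaxTorusCrit.isMonHom_of_comp_mono t' ((Over.pullback f).map c)
  have hcompat := Uniq.compat c hc i' hi' t' ht'
  have haff : IsAffineHom T'.hom := TorusAlgClosed.isAffineHom_of_isTorus hi'.2.2.1
  obtain ⟨P, _, p, hp1, hp2, -, e, he⟩ :=
    DescSub.exists_subgroup hcompat hf (quasiAffine_of_affine T'.hom)
  refine ⟨P, inferInstance, p, ?_⟩
  have hmax : Red.IsMaximalTorus ((Over.pullback f).map (p ≫ c)) := by
    refine AlgBc.isMaximalTorus_of_arrow e (Iso.refl _) ?_ hi'
    rw [Functor.map_comp, ← Category.assoc, he, ht']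
    exact Category.comp_id _
  refine isMaximalTorus_of_points inferInstance inferInstance
    (AlgBc.isTorus_of_bc f hf hmax.2.2.1) fun s => ?_
  obtain ⟨s', rfl⟩ := f.surjective s
  refine ⟨_, inferInstance, inferInstance, Red.geomPt s' ≫ f, ?_, ?_⟩
  · rw [Scheme.Hom.comp_apply, Cart.geomPt_closedPoint]
  · rw [isMaximalTorus_comp_iff]
    exact isMaximalTorus_bc _ hmax

/-- **Cartan subgroups are centralizers of maximal tori**. -/
theorem main (G : Over S) [GrpObj G] [Smooth G.hom] [IsSeparated G.hom] [QuasiCompact G.hom]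
    (hG : SGA3x.HasMaxTorusFpqcLocally G) (C : Over S) [GrpObj C] (c : C ⟶ G) (hc : SGA3x.IsCartan c) :
    ∃ (T : Over S) (_ : GrpObj T) (t : T ⟶ C), Red.IsMaximalTorus (t ≫ c) ∧
      Red.IsCentralizerOf (t ≫ c) c := by
  obtain ⟨S', f, hf, hs, hcov, T, _, i, hi⟩ := hG
  obtain ⟨P, g, hg1, hg2, hg3, T', _, i', t', hi', ht'⟩ :=
    Cover.exists_cover ((Over.pullback f).map c) (isCartan_bc f hc) i hi
  have hci := hc.1
  have hcm := hc.2.1
  obtain ⟨T₀, _, t₀, h₀⟩ := descend c hc (g ≫ f) (cover_comp g f hcov)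
    (i' ≫ (und (BcIso.bcCompIso g f G)).inv)
    (AlgBc.isMaximalTorus_of_arrow (Iso.refl _) (BcIso.bcCompIso g f G).symm
      (Category.id_comp _).symm hi')
    (t' ≫ (und (BcIso.bcCompIso g f C)).inv) (by
      rw [Category.assoc, comp_nat_inv, ← Category.assoc, ht'])
  exact ⟨T₀, inferInstance, t₀, h₀, Cart.isCentralizerOf_of_factor c hc (t₀ ≫ c) h₀ t₀ rfl⟩

end Groth.Agent.Sga3.H799.Main
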