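import Groth.Agent.UnramA.FibreFlat
import Groth.Agent.Flat2F.FlatComp
import Groth.Agent.Sga3B.Parab.FibIsoSch
import Mathlib.AlgebraicGeometry.Morphisms.FlatMono

/-!
# Fibrewise criteria in terms of field-valued points of the base

`f : X ⟶ Y` a morphism of schemes over `S`, `X` flat and locally of finite presentation, `Y` locally of
finite type.  For every point of `S` we are given a field-valued point above it over which `f` is flat
(resp. a monomorphism `f` which is flat, resp. an isomorphism).  Then `f` is flat (resp. an open
immersion, resp. an isomorphism).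
-/

set_option autoImplicit false
universe u
open CategoryTheory AlgebraicGeometry CategoryTheory.Limits

namespace Groth.Agent.Sga3.H799.FibCrit

open Groth.Agent.Sga3B.Parab.FibIsoSch (isPullback_map_left)

variable {S : Scheme.{u}}

/-- A field-valued point factors through the residue field of its image. -/
lemma exists_factor_residueField {K : Type u} [Field K] (x : Spec (CommRingCat.of K) ⟶ S) (s : S)
    (hx : x (IsLocalRing.closedPoint K) = s) :
    ∃ φ : S.residueField s ⟶ CommRingCat.of K, Spec.map φ ≫ S.fromSpecResidueField s = x := by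
  subst hx
  exact ⟨_, Scheme.descResidueField_stalkClosedPointTo_fromSpecResidueField K S x⟩

/-- **Fibrewise flatness**, over field-valued points of the base. -/
theorem flat_of_points {X Y : Over S} (f : X ⟶ Y) [Flat X.hom] [LocallyOfFinitePresentation X.hom]
    [LocallyOfFiniteType Y.hom]
    (h : ∀ s : S, ∃ (K : Type u) (_ : Field K) (x : Spec (CommRingCat.of K) ⟶ S),
      x (IsLocalRing.closedPoint K) = s ∧ Flat ((Over.pullback x).map f).left) : Flat f.left := by
  refine (UnramA.FibreFlat.flat_and_flat_of_fibres Y.hom X.hom f.left (Over.w f) fun s => ?_).1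
  obtain ⟨K, _, x, hx, hf⟩ := h s
  obtain ⟨φ, hφ⟩ := exists_factor_residueField x s hx
  have hsq := isPullback_map_left x f
  -- `Y_K ⟶ Y_s`
  let m : (Red.bc x Y).left ⟶ Y.hom.fiber s :=
    pullback.map Y.hom x Y.hom (S.fromSpecResidueField s) (𝟙 _) (Spec.map φ) (𝟙 _) (by simp) (by simp [hφ])
  have hm1 : m ≫ Y.hom.fiberι s = pullback.fst Y.hom x := by
    exact (pullback.lift_fst _ _ _).trans (Category.comp_id _)
  have hm2 : m ≫ Y.hom.fiberToSpecResidueField s = pullback.snd Y.hom x ≫ Spec.map φ := by
    exact pullback.lift_snd _ _ _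
  have hY : IsPullback m (pullback.snd Y.hom x) (Y.hom.fiberToSpecResidueField s) (Spec.map φ) := by
    refine IsPullback.of_right ?_ hm2 (IsPullback.of_hasPullback Y.hom (S.fromSpecResidueField s))
    change IsPullback (m ≫ Y.hom.fiberι s) _ _ _
    rw [hm1, hφ]
    exact IsPullback.of_hasPullback Y.hom x
  have hφ1 : Flat (Spec.map φ) := by
    rw [Flat.SpecMap_iff]
    exact RingHom.Flat.of_isField (Field.toIsField _) _
  have hφ2 : Surjective (Spec.map φ) := by
    constructor
    intro y
    exact ⟨IsLocalRing.closedPoint _, Subsingleton.elim (α := PrimeSpectrum _) _ _⟩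
  have hm3 : Flat m := MorphismProperty.of_isPullback hY.flip inferInstance
  have hm4 : Surjective m := MorphismProperty.of_isPullback hY.flip inferInstance
  rw [← hm1] at hsq
  have hsq' := IsPullback.of_right' hsq (IsPullback.of_hasPullback f.left (Y.hom.fiberι s))
  set n := (IsPullback.of_hasPullback f.left (Y.hom.fiberι s)).lift (pullback.fst X.hom x)
    (((Over.pullback x).map f).left ≫ m) (by rw [Category.assoc]; exact hsq.w) with hn
  have hn1 : Flat n := MorphismProperty.of_isPullback hsq'.flip hm3
  have hn2 : Surjective n := MorphismProperty.of_isPullback hsq'.flip hm4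
  have : Flat (n ≫ pullback.snd f.left (Y.hom.fiberι s)) := by
    rw [hsq'.w]
    infer_instance
  exact Flat2F.FlatComp.flat_of_flat_comp_of_flat_surjective n _

lemma lfp_left {X Y : Over S} (f : X ⟶ Y) [LocallyOfFinitePresentation X.hom] [LocallyOfFiniteType Y.hom] :
    LocallyOfFinitePresentation f.left :=
  UnramA.LfpOfComp.lfp_of_comp f.left Y.hom (by rw [Over.w f]; infer_instance) inferInstance

/-- **Fibrewise open immersions**: a monomorphism which is flat over field-valued points of the base is
an open immersion. -/
theorem isOpenImmersion_of_points {X Y : Over S} (f : X ⟶ Y) [Mono f] [Flat X.hom]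
    [LocallyOfFinitePresentation X.hom] [LocallyOfFiniteType Y.hom]
    (h : ∀ s : S, ∃ (K : Type u) (_ : Field K) (x : Spec (CommRingCat.of K) ⟶ S),
      x (IsLocalRing.closedPoint K) = s ∧ Flat ((Over.pullback x).map f).left) : IsOpenImmersion f.left := by
  have := flat_of_points f h
  have := lfp_left f
  have : Mono f.left := inferInstanceAs (Mono ((Over.forget S).map f))
  exact IsOpenImmersion.of_flat_of_mono f.left

/-- **Fibrewise isomorphisms**: a monomorphism which is an isomorphism over field-valued points of the
base is an isomorphism. -/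
theorem isIso_of_points {X Y : Over S} (f : X ⟶ Y) [Mono f] [Flat X.hom]
    [LocallyOfFinitePresentation X.hom] [LocallyOfFiniteType Y.hom]
    (h : ∀ s : S, ∃ (K : Type u) (_ : Field K) (x : Spec (CommRingCat.of K) ⟶ S),
      x (IsLocalRing.closedPoint K) = s ∧ IsIso ((Over.pullback x).map f)) : IsIso f := by
  have h1 : IsOpenImmersion f.left := isOpenImmersion_of_points f fun s => by
    obtain ⟨K, _, x, hx, hf⟩ := h s
    refine ⟨K, _, x, hx, ?_⟩
    have : IsIso ((Over.pullback x).map f).left := inferInstanceAs (IsIso ((Over.forget _).map ((Over.pullback x).map f)))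
    infer_instance
  have h2 : Surjective f.left := by
    constructor
    intro y
    obtain ⟨K, _, x, hx, hf⟩ := h (Y.hom y)
    have h3 : IsIso ((Over.pullback x).map f).left := inferInstanceAs (IsIso ((Over.forget _).map ((Over.pullback x).map f)))
    obtain ⟨z, hz1, -⟩ := Scheme.Pullback.exists_preimage_pullback (f := Y.hom) (g := x) y (IsLocalRing.closedPoint K) hx.symm
    obtain ⟨w, hw⟩ := ((Over.pullback x).map f).left.surjective z
    refine ⟨pullback.fst X.hom x w, ?_⟩
    rw [← hz1, ← hw, ← Scheme.Hom.comp_apply, ← Scheme.Hom.comp_apply, (isPullback_map_left x f).w]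
  have h3 : IsIso f.left := (isIso_iff_isOpenImmersion_and_surjective f.left).mpr ⟨h1, h2⟩
  have : IsIso ((Over.forget S).map f) := h3
  exact isIso_of_reflects_iso f (Over.forget S)

end Groth.Agent.Sga3.H799.FibCrit
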