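import Groth.Agent.Sga3B.MaxTorBc636
import Groth.Agent.Sga3B.AlgBc2
import Groth.Agent.Sga3B.SplitBc264
import Groth.Agent.Sga3.H799.FibCrit
import Groth.Agent.Sga3.H784.NAMain
import Groth.Prelude.Def_SGA3x

/-!
# Base change of maximal tori and of Cartan subgroups (arbitrary base change, groups not necessarily affine)
-/

set_option autoImplicit false
universe u
open CategoryTheory MonoidalCategory CartesianMonoidalCategory MonObj GrpObj AlgebraicGeometry Limits

namespace Groth.Agent.Sga3.H799.Bc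

open Groth.Agent.Sga3B Groth.Agent.Sga3B.RedIso Groth.Agent.Sga3B.BcNat
open Groth.Agent.Sga3B.AlgBc hiding isMaximalTorus_bc
open Groth.Agent.Sga3B.MaxTorBc636 (exists_geomPt exists_fac_geomPt)

variable {S S' : Scheme.{u}}

section Inst

variable (f : S' ⟶ S) (X : Over S)

instance lft_bc [LocallyOfFiniteType X.hom] : LocallyOfFiniteType ((Over.pullback f).obj X).hom :=
  inferInstanceAs (LocallyOfFiniteType (pullback.snd X.hom f))
instance lfp_bc [LocallyOfFinitePresentation X.hom] :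
    LocallyOfFinitePresentation ((Over.pullback f).obj X).hom :=
  inferInstanceAs (LocallyOfFinitePresentation (pullback.snd X.hom f))
instance smooth_bc [Smooth X.hom] : Smooth ((Over.pullback f).obj X).hom :=
  inferInstanceAs (Smooth (pullback.snd X.hom f))
instance sep_bc [IsSeparated X.hom] : IsSeparated ((Over.pullback f).obj X).hom :=
  inferInstanceAs (IsSeparated (pullback.snd X.hom f))
instance qc_bc [QuasiCompact X.hom] : QuasiCompact ((Over.pullback f).obj X).hom :=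
  inferInstanceAs (QuasiCompact (pullback.snd X.hom f))
instance flat_bc [Flat X.hom] : Flat ((Over.pullback f).obj X).hom :=
  inferInstanceAs (Flat (pullback.snd X.hom f))
instance surj_bc [Surjective X.hom] : Surjective ((Over.pullback f).obj X).hom :=
  inferInstanceAs (Surjective (pullback.snd X.hom f))
instance gi_bc [GeometricallyIrreducible X.hom] : GeometricallyIrreducible ((Over.pullback f).obj X).hom :=
  inferInstanceAs (GeometricallyIrreducible (pullback.snd X.hom f))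

end Inst

lemma isMaxTorOver_of_isMaximalTorus {K : Type u} [Field K] [IsAlgClosed K]
    {T G : Over (Spec (CommRingCat.of K))} [GrpObj T] [GrpObj G] {i : T ⟶ G}
    (h : Red.IsMaximalTorus i) : IsMaxTorOver i :=
  ((RG.BrMax.isMaximalTorus_iff_abs i).1 h).2.2.2

lemma isMaximalTorus_of_over {K : Type u} [Field K] [IsAlgClosed K]
    {T G : Over (Spec (CommRingCat.of K))} [GrpObj T] [GrpObj G] {i : T ⟶ G}
    (h1 : IsMonHom i) (h2 : Mono i) (h3 : Red.IsTorus T) (h : IsMaxTorOver i) : Red.IsMaximalTorus i :=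
  (RG.BrMax.isMaximalTorus_iff_abs i).2 ⟨h1, h2, h3, h⟩

/-- **Maximal tori are stable under arbitrary base change.** -/
theorem isMaximalTorus_bc (f : S' ⟶ S) {T G : Over S} [GrpObj T] [GrpObj G] [LocallyOfFiniteType G.hom]
    {i : T ⟶ G} (h : Red.IsMaximalTorus i) : Red.IsMaximalTorus ((Over.pullback f).map i) := by
  have h1 : IsMonHom i := h.1
  have h2 : Mono i := h.2.1
  refine ⟨inferInstance, inferInstance, TorusBc.isTorus_bc f h.2.2.1, fun s' => ?_⟩
  obtain ⟨θ, hθ⟩ := exists_geomPt f s'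
  have h5 := AlgBc.isMaximalTorus_bc (Red.geomPt (f s')) h
  have h6 := (H784.NAMain.isMaximalTorus_pullback_iff θ _ h5.1 h5.2.2.1).2 h5
  exact isMaxTorOver_of_arrow (fibIso hθ T).symm (fibIso hθ G).symm (fib_arrow hθ i)
    (isMaxTorOver_of_isMaximalTorus h6)

theorem isMaximalTorus_comp_iff {S'' : Scheme.{u}} (q : S'' ⟶ S') (g : S' ⟶ S) {T G : Over S} [GrpObj T]
    [GrpObj G] {i : T ⟶ G} : Red.IsMaximalTorus ((Over.pullback (q ≫ g)).map i) ↔
      Red.IsMaximalTorus ((Over.pullback q).map ((Over.pullback g).map i)) :=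
  ⟨isMaximalTorus_of_arrow (BcIso.bcCompIso q g T) (BcIso.bcCompIso q g G) (comp_nat q g i).symm,
   isMaximalTorus_of_arrow (BcIso.bcCompIso q g T).symm (BcIso.bcCompIso q g G).symm
    (comp_nat_inv q g i).symm⟩

/-- A subtorus which is a maximal torus at field-valued points above every point is a maximal torus. -/
theorem isMaximalTorus_of_points {T G : Over S} [GrpObj T] [GrpObj G] [LocallyOfFiniteType G.hom]
    {i : T ⟶ G} (h1 : IsMonHom i) (h2 : Mono i) (h3 : Red.IsTorus T)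
    (h : ∀ s : S, ∃ (K : Type u) (_ : Field K) (_ : IsAlgClosed K) (x : Spec (CommRingCat.of K) ⟶ S),
      x (IsLocalRing.closedPoint K) = s ∧ Red.IsMaximalTorus ((Over.pullback x).map i)) :
    Red.IsMaximalTorus i := by
  refine ⟨h1, h2, h3, fun s => ?_⟩
  obtain ⟨K, _, _, x, hx, hm⟩ := h s
  obtain ⟨s', θ, rfl⟩ := exists_fac_geomPt x
  obtain rfl : s' = s := by
    rw [← hx]
    have h4 : Set.range (Red.geomPt s') ⊆ {s'} := by
      rw [← Scheme.range_fromSpecResidueField s']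
      rintro _ ⟨y, rfl⟩
      exact ⟨_, rfl⟩
    have h5 := h4 ⟨θ (IsLocalRing.closedPoint K), rfl⟩
    exact h5.symm
  rw [isMaximalTorus_comp_iff] at hm
  have h6 := (H784.NAMain.isMaximalTorus_pullback_iff θ ((Over.pullback (Red.geomPt s')).map i)
    inferInstance (TorusBc.isTorus_bc _ h3)).1 hm
  exact isMaxTorOver_of_isMaximalTorus h6

section Cent

variable {H G Z H₁ G₁ Z₁ : Over S} [GrpObj H] [GrpObj G] [GrpObj Z] [GrpObj H₁] [GrpObj G₁] [GrpObj Z₁]

/-- Invariance of centralizers under isomorphism. -/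
lemma isCentralizerOf_of_arrow {i : H ⟶ G} {j : Z ⟶ G} {i₁ : H₁ ⟶ G₁} {j₁ : Z₁ ⟶ G₁}
    (φ : Grp.mk H ≅ Grp.mk H₁) (ζ : Grp.mk Z ≅ Grp.mk Z₁) (ψ : Grp.mk G ≅ Grp.mk G₁)
    (hi : i ≫ (und ψ).hom = (und φ).hom ≫ i₁) (hj : j ≫ (und ψ).hom = (und ζ).hom ≫ j₁)
    (h : Red.IsCentralizerOf i j) : Red.IsCentralizerOf i₁ j₁ := by
  obtain ⟨h1, h2, h3⟩ := h
  have e1 : j₁ = (und ζ).inv ≫ j ≫ (und ψ).hom := by rw [hj, Iso.inv_hom_id_assoc]
  have e2 : i₁ = (und φ).inv ≫ i ≫ (und ψ).hom := by rw [hi, Iso.inv_hom_id_assoc]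
  refine ⟨by rw [e1]; infer_instance, by rw [e1]; infer_instance, fun X g => ?_⟩
  have h4 := h3 X (g ≫ (und ψ).inv)
  have h5 : (∃ z : X ⟶ Z₁, z ≫ j₁ = g) ↔ ∃ z : X ⟶ Z, z ≫ j = g ≫ (und ψ).inv := by
    constructor
    · rintro ⟨z, rfl⟩
      exact ⟨z ≫ (und ζ).inv, by
        rw [e1]; simp only [Category.assoc, Iso.hom_inv_id, Category.comp_id]⟩
    · rintro ⟨z, hz⟩
      exact ⟨z ≫ (und ζ).hom, by
        rw [Category.assoc, ← hj, ← Category.assoc, hz, Category.assoc, Iso.inv_hom_id, Category.comp_id]⟩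
  rw [h5, h4]
  refine forall_congr' fun X' => forall_congr' fun x => ⟨fun hh t => ?_, fun hh t => ?_⟩
  · have h6 := congrArg (· ≫ (und ψ).hom) (hh (t ≫ (und φ).inv))
    simp only [MonObj.mul_comp, Category.assoc, Iso.inv_hom_id, Category.comp_id] at h6
    rw [e2]
    simpa only [Category.assoc] using h6
  · have h6 := congrArg (· ≫ (und ψ).inv) (hh (t ≫ (und φ).hom))
    rw [e2] at h6
    simpa only [MonObj.mul_comp, Category.assoc, Iso.hom_inv_id, Category.comp_id, Iso.hom_inv_id_assoc]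
      using h6

end Cent

section CartanOver

variable {K : Type u} [Field K]

lemma isCartanOver_of_arrow {C G C₁ G₁ : Over (Spec (CommRingCat.of K))} [GrpObj C] [GrpObj G]
    [GrpObj C₁] [GrpObj G₁] {c : C ⟶ G} {c₁ : C₁ ⟶ G₁} (ζ : Grp.mk C ≅ Grp.mk C₁)
    (ψ : Grp.mk G ≅ Grp.mk G₁) (hc : c ≫ (und ψ).hom = (und ζ).hom ≫ c₁) (h : SGA3x.IsCartanOver K c) :
    SGA3x.IsCartanOver K c₁ := by
  obtain ⟨-, -, T, _, i, hi, hz⟩ := h
  have hid : (und (Iso.refl (Grp.mk T))).hom = 𝟙 T := rfl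
  have h1 := isCentralizerOf_of_arrow (i₁ := i ≫ (und ψ).hom) (Iso.refl (Grp.mk T)) ζ ψ
    (by rw [hid, Category.id_comp]) hc hz
  exact ⟨h1.1, h1.2.1, T, inferInstance, i ≫ (und ψ).hom,
    isMaximalTorus_of_arrow (Iso.refl (Grp.mk T)) ψ (by rw [hid, Category.id_comp]) hi, h1⟩

lemma isCartanOver_bc {L : Type u} [Field L]
    (σ : Spec (CommRingCat.of L) ⟶ Spec (CommRingCat.of K)) {C G : Over (Spec (CommRingCat.of K))}
    [GrpObj C] [GrpObj G] [LocallyOfFiniteType G.hom] {c : C ⟶ G} (h : SGA3x.IsCartanOver K c) :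
    SGA3x.IsCartanOver L ((Over.pullback σ).map c) := by
  obtain ⟨_, _, T, _, i, hi, hz⟩ := h
  exact ⟨inferInstance, inferInstance, _, inferInstance, (Over.pullback σ).map i, isMaximalTorus_bc σ hi,
    SplitBc264.isCentralizerOf_bc σ hz⟩

end CartanOver

/-- The fibre of a Cartan subgroup at a geometric point. -/
theorem isCartanOver_point {C G : Over S} [GrpObj C] [GrpObj G] [LocallyOfFiniteType G.hom] {c : C ⟶ G}
    (h : SGA3x.IsCartan c) {K : Type u} [Field K] [IsAlgClosed K] (x : Spec (CommRingCat.of K) ⟶ S) :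
    SGA3x.IsCartanOver K ((Over.pullback x).map c) := by
  obtain ⟨s, θ, rfl⟩ := exists_fac_geomPt x
  exact isCartanOver_of_arrow (BcIso.bcCompIso θ (Red.geomPt s) C).symm
    (BcIso.bcCompIso θ (Red.geomPt s) G).symm (comp_nat_inv θ (Red.geomPt s) c).symm
    (isCartanOver_bc θ (h.2.2.2 s))

/-- **Cartan subgroups are stable under arbitrary base change.** -/
theorem isCartan_bc (f : S' ⟶ S) {C G : Over S} [GrpObj C] [GrpObj G] [LocallyOfFiniteType G.hom]
    {c : C ⟶ G} (h : SGA3x.IsCartan c) : SGA3x.IsCartan ((Over.pullback f).map c) := by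
  have h1 : IsMonHom c := h.1
  have h2 : Mono c := h.2.1
  have h3 : Smooth C.hom := h.2.2.1
  refine ⟨inferInstance, inferInstance, inferInstance, fun s' => ?_⟩
  exact isCartanOver_of_arrow (BcIso.bcCompIso (Red.geomPt s') f C)
    (BcIso.bcCompIso (Red.geomPt s') f G) (comp_nat (Red.geomPt s') f c).symm
    (isCartanOver_point h (Red.geomPt s' ≫ f))

end Groth.Agent.Sga3.H799.Bc
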