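import Groth.Agent.Sga3C.GrpSep
import Groth.Agent.Sga3B.TorusIrr
import Groth.Agent.Sga3B.MaxTorusCrit
import Groth.Agent.Sga3.H799.Bc

/-!
# Cartan subgroups over an algebraically closed field: two factorization statements

* `exists_lift_open` : a homomorphism from a group with geometrically irreducible fibres factors through
  every open subgroup.
* `isCentralizerOf_of_cartan` : a Cartan subgroup containing a maximal torus is its centralizer.
* `exists_factor_open` : a maximal torus commuting with an open subgroup `D₀` of a Cartan subgroup is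
  contained in `D₀`.
-/

set_option autoImplicit false
universe u
open CategoryTheory MonoidalCategory CartesianMonoidalCategory MonObj GrpObj AlgebraicGeometry Limits

namespace Groth.Agent.Sga3.H799.Fld

open Groth.Agent.Sga3B Groth.Agent.Sga3.H799.Bc

variable {S : Scheme.{u}}

lemma exists_lift_of_range {X D D₀ : Over S} (c₀ : D₀ ⟶ D) [IsOpenImmersion c₀.left] (a : X ⟶ D)
    (h : Set.range a.left ⊆ Set.range c₀.left) : ∃ b : X ⟶ D₀, b ≫ c₀ = a := by
  refine ⟨Over.homMk (IsOpenImmersion.lift c₀.left a.left h) ?_, ?_⟩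
  · rw [← Over.w c₀, IsOpenImmersion.lift_fac_assoc, Over.w]
  · ext1
    simp

/-- A homomorphism from a group with geometrically irreducible fibres factors through every open
subgroup. -/
theorem exists_lift_open {T D D₀ : Over S} [GrpObj T] [GrpObj D] [GrpObj D₀]
    [GeometricallyIrreducible T.hom] [UniversallyOpen T.hom] (φ : T ⟶ D) [IsMonHom φ] (c₀ : D₀ ⟶ D)
    [IsMonHom c₀] [IsOpenImmersion c₀.left] : ∃ φ₀ : T ⟶ D₀, φ₀ ≫ c₀ = φ := by
  apply exists_lift_of_range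
  rintro _ ⟨g, rfl⟩
  let W : T.left.Opens := φ.left ⁻¹ᵁ c₀.left.opensRange
  have hW : ∀ x : T.left, x ∈ W ↔ φ.left x ∈ Set.range c₀.left := fun x => Iff.rfl
  obtain ⟨k, hk1, hk2, hk3⟩ := Sga3C.GrpSep.exists_mul_eq (G := T) W g
    ⟨(η[T] : 𝟙_ (Over S) ⟶ T).left (T.hom g), by
      rw [hW, ← Scheme.Hom.comp_apply, ← Over.comp_left, IsMonHom.one_hom]
      have h1 : (η[D] : 𝟙_ (Over S) ⟶ D) = η[D₀] ≫ c₀ := (IsMonHom.one_hom c₀).symm
      rw [h1, Over.comp_left, Scheme.Hom.comp_apply]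
      exact ⟨_, rfl⟩, by
      rw [← Scheme.Hom.comp_apply, Over.w]
      rfl⟩
  let V : (T ⊗ T).left.Opens := (fst T T).left ⁻¹ᵁ W ⊓ (snd T T).left ⁻¹ᵁ W
  let P : Over S := Over.mk (V.ι ≫ (T ⊗ T).hom)
  let p : P ⟶ T ⊗ T := Over.homMk V.ι rfl
  obtain ⟨a, ha⟩ := exists_lift_of_range c₀ (p ≫ fst T T ≫ φ) (by
    rintro _ ⟨x, rfl⟩
    exact x.2.1)
  obtain ⟨b, hb⟩ := exists_lift_of_range c₀ (p ≫ snd T T ≫ φ) (by
    rintro _ ⟨x, rfl⟩
    exact x.2.2)
  have hm : (μ[T] : T ⊗ T ⟶ T) = fst T T * snd T T := MonObj.mul_eq_mul T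
  have hab : (a * b) ≫ c₀ = p ≫ μ[T] ≫ φ := by
    rw [MonObj.mul_comp, ha, hb, hm, MonObj.mul_comp, MonObj.comp_mul]
  refine ⟨(a * b).left ⟨k, hk1, hk2⟩, ?_⟩
  rw [← Scheme.Hom.comp_apply, ← Over.comp_left, hab, ← hk3]
  simp only [Over.comp_left, Scheme.Hom.comp_apply]
  rfl

section Field

variable {K : Type u} [Field K] [IsAlgClosed K] {L D T : Over (Spec (CommRingCat.of K))} [GrpObj L]
  [GrpObj D] [GrpObj T] [LocallyOfFiniteType L.hom]

/-- A Cartan subgroup containing a maximal torus is its centralizer. -/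
theorem isCentralizerOf_of_cartan (c : D ⟶ L) (hc : SGA3x.IsCartanOver K c) (i : T ⟶ L)
    (hi : Red.IsMaximalTorus i) (t : T ⟶ D) (ht : t ≫ c = i) : Red.IsCentralizerOf i c := by
  obtain ⟨h1, h2, T₀, _, i₀, hi₀, hz⟩ := hc
  have := hi.1
  have := hi.2.1
  have := hi₀.1
  have := hi₀.2.1
  have hcomm := (hz.2.2 D c).1 ⟨𝟙 D, Category.id_comp c⟩
  obtain ⟨f, hf⟩ := H784.NAMain.exists_factor_of_commute i hi i₀ hi₀.2.2.1 (fun a b => by
    have := hcomm _ (a ≫ t) b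
    rw [Category.assoc, ht] at this
    exact this)
  have hiso : IsIso f := isMaxTorOver_of_isMaximalTorus hi₀ T i f hi.2.2.1 hf
  refine ⟨h1, h2, fun X g => (hz.2.2 X g).trans ?_⟩
  refine forall_congr' fun X' => forall_congr' fun x => ⟨fun h a => ?_, fun h a => ?_⟩
  · have h3 := h (a ≫ inv f)
    rwa [← hf, Category.assoc, IsIso.inv_hom_id_assoc] at h3
  · have h3 := h (a ≫ f)
    rwa [Category.assoc, hf] at h3

/-- A torus commuting with an open subgroup `D₀` of a Cartan subgroup is contained in `D₀`. -/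
theorem exists_factor_open {D₀ : Over (Spec (CommRingCat.of K))} [GrpObj D₀] (c : D ⟶ L)
    (hc : SGA3x.IsCartanOver K c) (c₀ : D₀ ⟶ D) [IsMonHom c₀] [IsOpenImmersion c₀.left] (i : T ⟶ L)
    [IsMonHom i] (hT : Red.IsTorus T)
    (hcomm : ∀ (t : 𝟙_ (Over (Spec (CommRingCat.of K))) ⟶ T) (d : 𝟙_ (Over (Spec (CommRingCat.of K))) ⟶ D₀),
      (t ≫ i) * (d ≫ c₀ ≫ c) = (d ≫ c₀ ≫ c) * (t ≫ i)) : ∃ t : T ⟶ D₀, t ≫ c₀ ≫ c = i := by
  obtain ⟨h1, h2, T₀, _, i₀, hi₀, hz⟩ := hc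
  have := hi₀.1
  have := hi₀.2.1
  obtain ⟨t₁, ht₁⟩ := (hz.2.2 T₀ i₀).2 (fun X x h => by
    rw [← MonObj.mul_comp, ← MonObj.mul_comp, MaxTorNear900.mul_comm_of_isTorus hi₀.2.2.1])
  have hmt₁ : IsMonHom t₁ := by
    have : IsMonHom (t₁ ≫ c) := by rw [ht₁]; infer_instance
    exact MaxTorusCrit.isMonHom_of_comp_mono t₁ c
  have := TorusIrr.geometricallyIrreducible_of_isTorus hi₀.2.2.1
  have := TorusAlgClosed.smooth_of_isTorus hi₀.2.2.1
  obtain ⟨φ₀, hφ₀⟩ := exists_lift_open t₁ c₀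
  obtain ⟨f, hf⟩ := H784.NAMain.exists_factor_of_commute i₀ hi₀ i hT (fun a b => by
    have := hcomm b (a ≫ φ₀)
    rw [Category.assoc, ← Category.assoc φ₀, hφ₀, ht₁] at this
    exact this.symm)
  exact ⟨f ≫ φ₀, by rw [Category.assoc, ← Category.assoc φ₀, hφ₀, ht₁, hf]⟩

end Field

end Groth.Agent.Sga3.H799.Fld
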