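import Groth.Agent.Sga3.H798.CentSep
import Groth.Agent.Sga3.H799.Fld

/-!
# Cartan subgroups and maximal tori over a base

`c : C ⟶ G` Cartan subgroup, `i : T ⟶ G` a maximal torus of the smooth separated `S`-group `G`.

* `isCentralizerOf_of_factor` : if `T ≤ C` then `C` is the centralizer of `T`.
* `exists_factor_open` : if `T` commutes with an open subgroup `C₀` of `C` then `T ≤ C₀`.
-/

set_option autoImplicit false
universe u
open CategoryTheory MonoidalCategory CartesianMonoidalCategory MonObj GrpObj AlgebraicGeometry Limits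

namespace Groth.Agent.Sga3.H799.Cart

open Groth.Agent.Sga3B Groth.Agent.Sga3.H799.Bc

variable {S : Scheme.{u}}

lemma isIso_of_isCentralizerOf {T G C Z : Over S} [GrpObj G] [GrpObj C] [GrpObj Z]
    {i : T ⟶ G} {c : C ⟶ G} {z : Z ⟶ G} [GrpObj T] (hc : Red.IsCentralizerOf i c) (hz : Red.IsCentralizerOf i z)
    (d : C ⟶ Z) (hd : d ≫ z = c) : IsIso d := by
  obtain ⟨e, he⟩ := (hc.2.2 Z z).2 ((hz.2.2 Z z).1 ⟨𝟙 Z, Category.id_comp z⟩)
  have := hc.2.1
  have := hz.2.1
  refine ⟨e, ?_, ?_⟩
  · rw [← cancel_mono c, Category.assoc, he, hd, Category.id_comp]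
  · rw [← cancel_mono z, Category.assoc, hd, he, Category.id_comp]

lemma isCentralizerOf_of_iso {T G C Z : Over S} [GrpObj G] [GrpObj C] [GrpObj Z]
    {i : T ⟶ G} {c : C ⟶ G} {z : Z ⟶ G} [GrpObj T] (hz : Red.IsCentralizerOf i z) [IsMonHom c]
    (d : C ⟶ Z) [IsIso d] (hd : d ≫ z = c) : Red.IsCentralizerOf i c := by
  have := hz.2.1
  refine ⟨inferInstance, by rw [← hd]; infer_instance, fun X g => Iff.trans ⟨?_, ?_⟩ (hz.2.2 X g)⟩
  · rintro ⟨a, rfl⟩
    exact ⟨a ≫ d, by rw [Category.assoc, hd]⟩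
  · rintro ⟨a, rfl⟩
    exact ⟨a ≫ inv d, by rw [Category.assoc, ← hd, IsIso.inv_hom_id_assoc]⟩

lemma geomPt_closedPoint (s : S) : Red.geomPt s (IsLocalRing.closedPoint _) = s := by
  have h : Red.geomPt s (IsLocalRing.closedPoint _) ∈ Set.range (S.fromSpecResidueField s) := ⟨_, rfl⟩
  rw [Scheme.range_fromSpecResidueField] at h
  exact h

variable {G C T : Over S} [GrpObj G] [GrpObj C] [GrpObj T] [Smooth G.hom] [IsSeparated G.hom]

/-- **A Cartan subgroup containing a maximal torus is its centralizer.** -/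
theorem isCentralizerOf_of_factor (c : C ⟶ G) (hc : SGA3x.IsCartan c) (i : T ⟶ G)
    (hi : Red.IsMaximalTorus i) (t : T ⟶ C) (ht : t ≫ c = i) : Red.IsCentralizerOf i c := by
  have := hi.1
  have := hi.2.1
  have := hc.1
  have := hc.2.1
  have := hc.2.2.1
  have hmt : IsMonHom t := by
    have : IsMonHom (t ≫ c) := by rw [ht]; infer_instance
    exact MaxTorusCrit.isMonHom_of_comp_mono t c
  have hsep : IsSeparated C.hom := by
    rw [← Over.w c]
    have : Mono c.left := inferInstanceAs (Mono ((Over.forget S).map c))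
    infer_instance
  -- fibres
  have key : ∀ s : S, Red.IsCentralizerOf ((Over.pullback (Red.geomPt s)).map i)
      ((Over.pullback (Red.geomPt s)).map c) := fun s =>
    Fld.isCentralizerOf_of_cartan _ (isCartanOver_point hc _) _ (isMaximalTorus_bc _ hi)
      ((Over.pullback (Red.geomPt s)).map t) (by rw [← Functor.map_comp, ht])
  -- `C` centralizes `T`
  obtain ⟨Y, _, y, hy, -, hys, -⟩ := H798.CentSep.exists_smooth_centralizer t hi.2.2.1
  have := hy.1
  have := hy.2.1
  have hiso : IsIso y := FibCrit.isIso_of_points y fun s => by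
    refine ⟨_, _, Red.geomPt s, geomPt_closedPoint s, ?_⟩
    have h1 := SplitBc264.isCentralizerOf_bc (Red.geomPt s) hy
    obtain ⟨a, ha⟩ := (h1.2.2 _ (𝟙 _)).2 (fun X x h => by
      have h2 := ((key s).2.2 _ (x ≫ (Over.pullback (Red.geomPt s)).map c)).1 ⟨x, rfl⟩ X (𝟙 X) h
      have : Mono ((Over.pullback (Red.geomPt s)).map c) := inferInstance
      rw [← cancel_mono ((Over.pullback (Red.geomPt s)).map c), MonObj.mul_comp, MonObj.mul_comp,
        Category.comp_id, Category.assoc, ← Functor.map_comp, ht]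
      rw [Category.id_comp] at h2
      exact h2)
    have h3 : IsSplitEpi ((Over.pullback (Red.geomPt s)).map y) := IsSplitEpi.mk' ⟨a, ha⟩
    exact isIso_of_mono_of_isSplitEpi _
  have hcomm : ∀ (X : Over S) (a : X ⟶ C) (b : X ⟶ T), (a ≫ c) * (b ≫ i) = (b ≫ i) * (a ≫ c) := by
    intro X a b
    have h1 := (hy.2.2 X a).1 ⟨a ≫ inv y, by rw [Category.assoc, IsIso.inv_hom_id, Category.comp_id]⟩ X
      (𝟙 X) b
    rw [Category.id_comp] at h1
    have h2 := congrArg (· ≫ c) h1
    simp only [MonObj.mul_comp, Category.assoc, ht] at h2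
    exact h2
  -- the centralizer of `T` in `G`
  obtain ⟨Z, _, z, hz, -, hzs, -⟩ := H798.CentSep.exists_smooth_centralizer i hi.2.2.1
  have := hz.1
  have := hz.2.1
  obtain ⟨d, hd⟩ := (hz.2.2 C c).2 (fun X x h => hcomm X x h)
  have hdm : Mono d := by
    have : Mono (d ≫ z) := by rw [hd]; infer_instance
    exact mono_of_mono d z
  have hdi : IsIso d := FibCrit.isIso_of_points d fun s => by
    refine ⟨_, _, Red.geomPt s, geomPt_closedPoint s, ?_⟩
    exact isIso_of_isCentralizerOf (key s) (SplitBc264.isCentralizerOf_bc (Red.geomPt s) hz)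
      ((Over.pullback (Red.geomPt s)).map d) (by rw [← Functor.map_comp, hd])
  exact isCentralizerOf_of_iso hz d hd

/-- **A maximal torus commuting with an open subgroup `C₀` of a Cartan subgroup is contained in `C₀`.** -/
theorem exists_factor_open {C₀ : Over S} [GrpObj C₀] (c : C ⟶ G) (hc : SGA3x.IsCartan c) (c₀ : C₀ ⟶ C)
    [IsMonHom c₀] [IsOpenImmersion c₀.left] (i : T ⟶ G) (hi : Red.IsMaximalTorus i)
    (hcomm : ∀ (X : Over S) (t : X ⟶ T) (d : X ⟶ C₀),
      (t ≫ i) * (d ≫ c₀ ≫ c) = (d ≫ c₀ ≫ c) * (t ≫ i)) : ∃ t : T ⟶ C₀, t ≫ c₀ ≫ c = i := by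
  have := hi.1
  have := hi.2.1
  have := hc.1
  have := hc.2.1
  have := hc.2.2.1
  have hm0 : Mono c₀ := Over.mono_of_mono_left c₀
  have hsm : Smooth C₀.hom := by
    rw [← Over.w c₀]
    infer_instance
  obtain ⟨Z, _, z, hz, -, hzs, -⟩ := H798.CentSep.exists_smooth_centralizer i hi.2.2.1
  have := hz.1
  have := hz.2.1
  obtain ⟨d, hd⟩ := (hz.2.2 C₀ (c₀ ≫ c)).2 (fun X x h => (hcomm X h x).symm)
  have hdm : Mono d := by
    have : Mono (d ≫ z) := by rw [hd]; infer_instance
    exact mono_of_mono d z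
  have hdh : IsMonHom d := by
    have : IsMonHom (d ≫ z) := by rw [hd]; infer_instance
    exact MaxTorusCrit.isMonHom_of_comp_mono d z
  have hopen : IsOpenImmersion d.left := FibCrit.isOpenImmersion_of_points d fun s => by
    refine ⟨_, _, Red.geomPt s, geomPt_closedPoint s, ?_⟩
    have hc₀ : IsOpenImmersion ((Over.pullback (Red.geomPt s)).map c₀).left :=
      MorphismProperty.of_isPullback (Parab.FibIsoSch.isPullback_map_left (Red.geomPt s) c₀) inferInstance
    obtain ⟨t, ht⟩ := Fld.exists_factor_open ((Over.pullback (Red.geomPt s)).map c)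
      (isCartanOver_point hc _) ((Over.pullback (Red.geomPt s)).map c₀)
      ((Over.pullback (Red.geomPt s)).map i) (TorusBc.isTorus_bc _ hi.2.2.1) (fun a b => by
        have := MaxTorNear900.comm_bc (Red.geomPt s) i (c₀ ≫ c) (fun X x h => (hcomm X h x).symm) _ b a
        rw [Functor.map_comp] at this
        exact this.symm)
    have h1 := Fld.isCentralizerOf_of_cartan _ (isCartanOver_point hc _) _
      (isMaximalTorus_bc (Red.geomPt s) hi) (t ≫ (Over.pullback (Red.geomPt s)).map c₀)
      (by rw [Category.assoc, ht])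
    have hz' := SplitBc264.isCentralizerOf_bc (Red.geomPt s) hz
    obtain ⟨e, he⟩ := (hz'.2.2 _ ((Over.pullback (Red.geomPt s)).map c)).2
      ((h1.2.2 _ _).1 ⟨𝟙 _, Category.id_comp _⟩)
    have h2 : IsIso e := isIso_of_isCentralizerOf h1 hz' e he
    have h3 : IsIso e.left := inferInstanceAs (IsIso ((Over.forget _).map e))
    have h4 : (Over.pullback (Red.geomPt s)).map d = (Over.pullback (Red.geomPt s)).map c₀ ≫ e := by
      rw [← cancel_mono ((Over.pullback (Red.geomPt s)).map z), ← Functor.map_comp, hd, Category.assoc, he,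
        Functor.map_comp]
    rw [h4, Over.comp_left]
    infer_instance
  obtain ⟨e, he⟩ := (hz.2.2 T i).2 (fun X x h => by
    rw [← MonObj.mul_comp, ← MonObj.mul_comp, MaxTorNear900.mul_comm_of_isTorus hi.2.2.1])
  have heh : IsMonHom e := by
    have : IsMonHom (e ≫ z) := by rw [he]; infer_instance
    exact MaxTorusCrit.isMonHom_of_comp_mono e z
  have := TorusIrr.geometricallyIrreducible_of_isTorus hi.2.2.1
  have := TorusAlgClosed.smooth_of_isTorus hi.2.2.1
  obtain ⟨φ₀, hφ₀⟩ := Fld.exists_lift_open e d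
  exact ⟨φ₀, by rw [← hd, ← Category.assoc, hφ₀, he]⟩

end Groth.Agent.Sga3.H799.Cart
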