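import Groth.Agent.Sga3.H799.Transp
import Groth.Agent.Sga3.H778.NeutralOpen
import Groth.Agent.Sga3C.GrpIrr

/-!
# A maximal torus inside a Cartan subgroup, after a smooth covering
-/

set_option autoImplicit false
universe u
open CategoryTheory MonoidalCategory CartesianMonoidalCategory MonObj GrpObj AlgebraicGeometry Limits

namespace Groth.Agent.Sga3.H799.Cover

open Groth.Agent.Sga3B Groth.Agent.Sga3B.BcPts Groth.Agent.Sga3.H799.Bc Groth.Agent.Sga3.H799.Ev
open Groth.Agent.Sga3.H798.SubTorus (ev_map)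
open Groth.Agent.Sga3.H799.Transp

variable {S S' : Scheme.{u}}

/-- The neutral component of a smooth group. -/
theorem exists_neutral (C : Over S) [GrpObj C] [Smooth C.hom] :
    ∃ (C₀ : Over S) (_ : GrpObj C₀) (c₀ : C₀ ⟶ C), IsMonHom c₀ ∧ IsOpenImmersion c₀.left ∧
      Smooth C₀.hom ∧ GeometricallyIrreducible C₀.hom := by
  have hsm : Smooth ((⊤ : C.left.Opens).ι ≫ C.hom) := inferInstance
  have h := H778.NeutralOpen.isOpen_neutralSet C ⊤ (fun _ => trivial)
  obtain ⟨hgrp, hmon⟩ := H778.NeutralOpen.exists_grpObj C h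
  have hsm : Smooth (H778.NeutralOpen.opn C (H778.NeutralOpen.neutral C h)).hom :=
    H778.NeutralOpen.smooth_neutral C ⊤ (fun _ => trivial) h
  refine ⟨_, hgrp, H778.NeutralOpen.opnι C (H778.NeutralOpen.neutral C h), hmon, inferInstance, hsm, ?_⟩
  let : GrpObj (Over.mk (H778.NeutralOpen.opn C (H778.NeutralOpen.neutral C h)).hom) := hgrp
  exact Sga3C.GrpIrr.geometricallyIrreducible_of_connected_fibres
    (H778.NeutralOpen.opn C (H778.NeutralOpen.neutral C h)).hom (H778.NeutralOpen.isConnected_fibre C h)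

lemma exists_pt {f : S' ⟶ S} {G : Over S} (g : 𝟙_ (Over S') ⟶ Red.bc f G) :
    ∃ g' : Over.mk f ⟶ G, pt g' = g := by
  let e : Over.mk f ⟶ (Over.map f).obj (𝟙_ (Over S')) := Over.homMk (𝟙 S') (by
    simp only [Over.map_obj_hom, Over.mk_hom]
    erw [Category.id_comp, Category.id_comp])
  refine ⟨e ≫ (bcEquiv f _ G).symm g, ?_⟩
  have he : str (f := f) (𝟙_ (Over S')) ≫ e = 𝟙 _ := by
    ext1
    simp only [str, e, Over.comp_left, Over.homMk_left]
    erw [Category.id_comp]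
    rfl
  rw [pt, ← Category.assoc, he, Category.id_comp, Equiv.apply_symm_apply]

variable {G C T : Over S} [GrpObj G] [GrpObj C] [GrpObj T] [Smooth G.hom] [IsSeparated G.hom]

omit [IsSeparated G.hom] in
/-- The transporter is surjective. -/
theorem surjective_rep {C₀ : Over S} [GrpObj C₀] (c : C ⟶ G) (hc : SGA3x.IsCartan c) (c₀ : C₀ ⟶ C)
    (i : T ⟶ G) (hi : Red.IsMaximalTorus i) {P : Over S} (p : P ⟶ G)
    (hP : ∀ (X : Over S) (g : X ⟶ G), (∃ a : X ⟶ P, a ≫ p = g) ↔ g ∈ trSet i (c₀ ≫ c) X) :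
    Surjective P.hom := by
  constructor
  intro s
  obtain ⟨_, _, T₁, _, i₁, hi₁, hz⟩ := isCartanOver_point hc (Red.geomPt s)
  obtain ⟨g, φ, hφ⟩ := H784.NAMain.exists_conjBy ((Over.pullback (Red.geomPt s)).map i) i₁
    (isMaximalTorus_bc _ hi) hi₁
  obtain ⟨g', rfl⟩ := exists_pt g
  have h1 : (Over.pullback (Red.geomPt s)).map i ≫ conj (pt g') = φ.hom ≫ i₁ := by
    rw [comp_conj, hφ]
  have h2 : g' ∈ trSet i (c₀ ≫ c) (Over.mk (Red.geomPt s)) := by
    intro X k t d
    have h3 := (bc_mul_comm_iff ((Over.pullback (Red.geomPt s)).map i ≫ conj (pt g'))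
      ((Over.pullback (Red.geomPt s)).map (c₀ ≫ c))).1 (by
        intro A a z
        rw [h1, Functor.map_comp, ← Category.assoc, ← Category.assoc z]
        have h5 := (hz.2.2 A ((z ≫ (Over.pullback (Red.geomPt s)).map c₀) ≫
          (Over.pullback (Red.geomPt s)).map c)).1 ⟨_, rfl⟩ A (𝟙 A) (a ≫ φ.hom)
        rw [Category.id_comp] at h5
        exact h5.symm) X t d k
    rwa [ev_conjBc, ev_map] at h3
  obtain ⟨a, -⟩ := (hP _ g').2 h2
  refine ⟨a.left (IsLocalRing.closedPoint _), ?_⟩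
  rw [← Scheme.Hom.comp_apply, Over.w a]
  exact Cart.geomPt_closedPoint s

/-- **After a smooth surjective base change, a Cartan subgroup contains a maximal torus** (if `G` has a
maximal torus). -/
theorem exists_cover [QuasiCompact G.hom] (c : C ⟶ G) (hc : SGA3x.IsCartan c) (i : T ⟶ G)
    (hi : Red.IsMaximalTorus i) :
    ∃ (P : Scheme.{u}) (f : P ⟶ S), Smooth f ∧ Surjective f ∧ QuasiCompact f ∧
      ∃ (T' : Over P) (_ : GrpObj T') (i' : T' ⟶ Red.bc f G) (t' : T' ⟶ Red.bc f C),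
        Red.IsMaximalTorus i' ∧ t' ≫ (Over.pullback f).map c = i' := by
  have := hc.2.2.1
  have := hi.1
  have := hi.2.1
  obtain ⟨C₀, _, c₀, h1, h2, h3, h4⟩ := exists_neutral C
  have := TorusIrr.geometricallyIrreducible_of_isTorus hi.2.2.1
  have := TorusAlgClosed.smooth_of_isTorus hi.2.2.1
  obtain ⟨P, p, hp1, hp2, hP⟩ := exists_rep i (c₀ ≫ c)
  have hsm := smooth_rep c hc c₀ i hi p hP
  have hsurj := surjective_rep c hc c₀ i hi p hP
  have hqc : QuasiCompact P.hom := by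
    rw [← Over.w p]
    infer_instance
  refine ⟨P.left, P.hom, hsm, hsurj, hqc, Red.bc P.hom T, inferInstance,
    (Over.pullback P.hom).map i ≫ conj (pt (f := P.hom) p), ?_⟩
  have h5 := factor_of_comm P.hom c hc c₀ i hi p ((hP P p).1 ⟨𝟙 P, Category.id_comp p⟩)
  obtain ⟨t', ht'⟩ := (exists_factor_iff ((Over.pullback P.hom).map i ≫ conj (pt (f := P.hom) p))
    (c₀ ≫ c)).2 (by
      intro A x k
      obtain ⟨b, hb⟩ := h5 A k x
      exact ⟨b, by rw [hb, ev_conjBc]⟩)
  refine ⟨t' ≫ (Over.pullback P.hom).map c₀, isMaximalTorus_conj (isMaximalTorus_bc _ hi) _, ?_⟩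
  rw [Category.assoc, ← Functor.map_comp, ht']

end Groth.Agent.Sga3.H799.Cover
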