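import Groth.Agent.Sga3B.BcPts
import Groth.Agent.Sga3B.Pts
import Groth.Agent.Sga3.H798.SubTorus

/-!
# Points of base changes: families of morphisms and conjugation by an `S'`-valued point
-/

set_option autoImplicit false
universe u
open CategoryTheory MonoidalCategory CartesianMonoidalCategory MonObj GrpObj AlgebraicGeometry Limits

namespace Groth.Agent.Sga3.H799.Ev

open Groth.Agent.Sga3B Groth.Agent.Sga3B.BcPts
open Groth.Agent.Sga3.H798.SubTorus (ev_map)

section Conj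

variable {S : Scheme.{u}} {G : Over S} [GrpObj G]

/-- The inner automorphism defined by a rational point. -/
noncomputable def conj (g : 𝟙_ (Over S) ⟶ G) : G ⟶ G := (toUnit G ≫ g) * 𝟙 G * (toUnit G ≫ g)⁻¹

lemma comp_conj (g : 𝟙_ (Over S) ⟶ G) {X : Over S} (x : X ⟶ G) :
    x ≫ conj g = (toUnit X ≫ g) * x * (toUnit X ≫ g)⁻¹ := by
  rw [conj, MonObj.comp_mul, MonObj.comp_mul, GrpObj.comp_inv, ← Category.assoc, comp_toUnit,
    Category.comp_id]

lemma conj_conj (g h : 𝟙_ (Over S) ⟶ G) : conj g ≫ conj h = conj (h * g) := by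
  rw [comp_conj, conj, conj]
  simp only [MonObj.comp_mul, _root_.mul_inv_rev, _root_.mul_assoc]

lemma conj_one : conj (1 : 𝟙_ (Over S) ⟶ G) = 𝟙 G := by
  rw [conj, MonObj.comp_one, _root_.one_mul, _root_.inv_one, _root_.mul_one]

instance isMonHom_conj (g : 𝟙_ (Over S) ⟶ G) : IsMonHom (conj g) := by
  apply Groth.Agent.Sga3B.Pts.isMonHom_of_points
  intro X x y
  rw [comp_conj, comp_conj, comp_conj]
  group

instance isIso_conj (g : 𝟙_ (Over S) ⟶ G) : IsIso (conj g) :=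
  ⟨conj g⁻¹, by rw [conj_conj, inv_mul_cancel, conj_one], by rw [conj_conj, mul_inv_cancel, conj_one]⟩

end Conj

variable {S S' : Scheme.{u}} {f : S' ⟶ S}

/-- The structure morphism of a base-changed scheme as a morphism to `S'`. -/
noncomputable def str (Y : Over S') : (Over.map f).obj Y ⟶ Over.mk f := Over.homMk Y.hom rfl

lemma symm_comp_eq_ev {X Z : Over S} (φ : Red.bc f X ⟶ Red.bc f Z) {Y : Over S'} (t : Y ⟶ Red.bc f X) :
    (bcEquiv f Y Z).symm (t ≫ φ) = ev φ ((bcEquiv f Y X).symm t) (str Y) := by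
  let j : Over.mk (str (f := f) Y).left ⟶ Y := Over.homMk (𝟙 _) (by simp [str])
  have hj : (overIso (str (f := f) Y)).hom = (Over.map f).map j := by
    ext1
    rfl
  rw [ev, hj, ← comp_bcEquiv_symm, Equiv.apply_symm_apply, Category.assoc,
    comp_bcEquiv_symm f j (t ≫ φ), ← hj, Iso.inv_hom_id_assoc]

lemma ev_hmul {X Y : Over S} [GrpObj Y] (φ ψ : Red.bc f X ⟶ Red.bc f Y) {T : Over S} (x : T ⟶ X)
    (t : T ⟶ Over.mk f) : ev (φ * ψ) x t = ev φ x t * ev ψ x t := by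
  have h : (bcEquiv f (Over.mk t.left) Y).symm (bcEquiv f (Over.mk t.left) X ((overIso t).hom ≫ x) ≫ (φ * ψ)) =
      (bcEquiv f (Over.mk t.left) Y).symm (bcEquiv f (Over.mk t.left) X ((overIso t).hom ≫ x) ≫ φ) *
      (bcEquiv f (Over.mk t.left) Y).symm (bcEquiv f (Over.mk t.left) X ((overIso t).hom ≫ x) ≫ ψ) := by
    rw [MonObj.comp_mul]
    exact (bcMulEquiv f _ Y).symm.map_mul _ _
  simp only [ev]
  rw [h, MonObj.comp_mul]

lemma ev_hone {X Y : Over S} [GrpObj Y] {T : Over S} (x : T ⟶ X) (t : T ⟶ Over.mk f) :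
    ev (1 : Red.bc f X ⟶ Red.bc f Y) x t = 1 := by
  have h := ev_hmul (1 : Red.bc f X ⟶ Red.bc f Y) 1 x t
  rw [_root_.one_mul] at h
  exact (mul_eq_left.mp h.symm)

lemma ev_hinv {X Y : Over S} [GrpObj Y] (φ : Red.bc f X ⟶ Red.bc f Y) {T : Over S} (x : T ⟶ X)
    (t : T ⟶ Over.mk f) : ev φ⁻¹ x t = (ev φ x t)⁻¹ := by
  rw [eq_inv_iff_mul_eq_one, ← ev_hmul, inv_mul_cancel, ev_hone]

/-- The section of the base change given by an `S'`-valued point. -/
noncomputable def pt {G : Over S} (g : Over.mk f ⟶ G) : 𝟙_ (Over S') ⟶ Red.bc f G :=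
  bcEquiv f (𝟙_ (Over S')) G (str _ ≫ g)

lemma ev_toUnit_pt {X G : Over S} (g : Over.mk f ⟶ G) {T : Over S} (x : T ⟶ X) (t : T ⟶ Over.mk f) :
    ev (toUnit (Red.bc f X) ≫ pt g) x t = t ≫ g := by
  simp only [ev, pt]
  rw [← Category.assoc, ← comp_bcEquiv, Equiv.symm_apply_apply, ← Category.assoc, ← Category.assoc]
  congr 1
  ext1
  simp only [Over.comp_left, overIso_inv_left, Over.map_map_left, Category.assoc]
  have h1 := Over.w (bcEquiv f (Over.mk t.left) X ((overIso t).hom ≫ x) ≫ toUnit (Red.bc f X))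
  simp only [str, Over.homMk_left, Category.id_comp]
  rw [Over.comp_left, Category.assoc] at h1
  simpa using h1

lemma ev_conj {G : Over S} [GrpObj G] (g : Over.mk f ⟶ G) {T : Over S} (x : T ⟶ G) (t : T ⟶ Over.mk f) :
    ev (conj (pt g)) x t = (t ≫ g) * x * (t ≫ g)⁻¹ := by
  rw [conj, ev_hmul, ev_hmul, ev_hinv, ev_toUnit_pt, ev_id]

/-- A morphism of base changes factors through the base change of `c` if and only if it does so on points. -/
lemma exists_factor_iff {X Y Z : Over S} (φ : Red.bc f X ⟶ Red.bc f Y) (c : Z ⟶ Y) :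
    (∃ t : Red.bc f X ⟶ Red.bc f Z, t ≫ (Over.pullback f).map c = φ) ↔
      ∀ (A : Over S) (x : A ⟶ X) (k : A ⟶ Over.mk f), ∃ b : A ⟶ Z, b ≫ c = ev φ x k := by
  constructor
  · rintro ⟨t, rfl⟩ A x k
    exact ⟨ev t x k, by rw [← ev_comp, ev_map]⟩
  · intro h
    obtain ⟨b, hb⟩ := h _ ((bcEquiv f _ X).symm (𝟙 _)) (str _)
    refine ⟨bcEquiv f _ Z b, ?_⟩
    rw [← bcEquiv_comp, hb, ← symm_comp_eq_ev, Equiv.apply_symm_apply, Category.id_comp]

/-- Equality of points of the base change. -/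
lemma bc_mul_comm_iff {X Y Z : Over S} [GrpObj Y] (φ : Red.bc f X ⟶ Red.bc f Y)
    (ψ : Red.bc f Z ⟶ Red.bc f Y) :
    (∀ (A : Over S') (x : A ⟶ Red.bc f X) (z : A ⟶ Red.bc f Z),
      (x ≫ φ) * (z ≫ ψ) = (z ≫ ψ) * (x ≫ φ)) ↔
      ∀ (A : Over S) (x : A ⟶ X) (z : A ⟶ Z) (k : A ⟶ Over.mk f),
        ev φ x k * ev ψ z k = ev ψ z k * ev φ x k := by
  constructor
  · intro h A x z k
    have h1 := h (Over.mk k.left) (bcEquiv f _ X ((overIso k).hom ≫ x)) (bcEquiv f _ Z ((overIso k).hom ≫ z))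
    have h2 := congrArg (bcMulEquiv f _ Y).symm h1
    rw [map_mul, map_mul] at h2
    have h3 := congrArg ((overIso k).inv ≫ ·) h2
    simp only [MonObj.comp_mul] at h3
    exact h3
  · intro h A x z
    apply (bcMulEquiv f A Y).symm.injective
    rw [map_mul, map_mul]
    change (bcEquiv f A Y).symm _ * (bcEquiv f A Y).symm _ = (bcEquiv f A Y).symm _ * (bcEquiv f A Y).symm _
    rw [symm_comp_eq_ev, symm_comp_eq_ev]
    exact h _ _ _ _

end Groth.Agent.Sga3.H799.Ev
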