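import Groth.Agent.Sga3.H799.TranspLift
import Groth.Agent.Sga3B.LocalLift

/-!
# Infinitesimal transporter lifting for families
-/

set_option autoImplicit false
universe u
open CategoryTheory MonoidalCategory CartesianMonoidalCategory MonObj GrpObj AlgebraicGeometry Limits

namespace Groth.Agent.Sga3.H799.TranspFam

open Groth.Agent.Sga3B Groth.Agent.Sga3B.DSPts Groth.Agent.Sga3B.InfConj Groth.Agent.Sga3B.InfConjFam
open Groth.Agent.Sga3.H799.TranspLift

variable {C : Type u} [CommRing C] {S : Scheme.{u}} (x : Spec (CommRingCat.of C) ⟶ S) {M : Type} [AddCommGroup M]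
  (G H : Over S) [GrpObj G] [GrpObj H]

/-- **Infinitesimal transporter for families.** -/
theorem transp_family (I : Ideal C) (hI : I * I = ⊥) [IsSeparated G.hom] [Smooth H.hom]
    (hUG : HasAffineUnitNhd (Red.bc x G)) (hUH : HasAffineUnitNhd (Red.bc x H))
    (h : H ⟶ G) [IsMonHom h] [Mono h] (a : Red.DS S M ⊗ Over.mk x ⟶ G)
    (ha : AutFam.IsHomFamily (Red.DS S M) G a)
    (hab : ∃ b, b ≫ h = (Red.DS S M ◁ redMap x I) ≫ a) :
    ∃ w : Over.mk x ⟶ G, redMap x I ≫ w = 1 ∧ ∀ (T : Over S) (q : T ⟶ Red.DS S M) (t : T ⟶ Over.mk x),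
      ∃ b : T ⟶ H, b ≫ h = (t ≫ w)⁻¹ * (lift q t ≫ a) * (t ≫ w) := by
  have := isMonHom_famHom x G ha
  have : IsSeparated (Red.bc x G).hom := inferInstanceAs (IsSeparated (pullback.snd _ _))
  have : Smooth (Red.bc x H).hom := inferInstanceAs (Smooth (pullback.snd _ _))
  obtain ⟨b₀, hb₀⟩ := hab
  obtain ⟨w, hw1, hw2⟩ := transp_base I hI M (Red.bc x G) (Red.bc x H) hUG hUH ((Over.pullback x).map h)
    (famHom x G a) (by
    intro E _ _ q hE
    rw [comp_famHom]
    let e : (Over.map x).obj (pt C E) ⟶ Over.mk (Spec.map (CommRingCat.ofHom (Ideal.Quotient.mk I)) ≫ x) :=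
      Over.homMk (Spec.map (CommRingCat.ofHom (Ideal.Quotient.lift I (algebraMap C E) hE))) (by
        simp only [Over.mk_hom, Over.map_obj_hom, ← Category.assoc, ← Spec.map_comp, ← CommRingCat.ofHom_comp]
        congr 3)
    have he : st x (pt C E) = e ≫ redMap x I := by
      ext1
      simp only [st, redMap, Over.comp_left, Over.homMk_left, e, ← Spec.map_comp, ← CommRingCat.ofHom_comp]
      rfl
    have he' : lift (tr x q) (st x (pt C E)) = lift (tr x q) e ≫ (Red.DS S M ◁ redMap x I) := by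
      rw [lift_whiskerLeft, he]
    refine ⟨bcEquiv x _ H (lift (tr x q) e ≫ b₀), ?_⟩
    rw [bcEquiv_comp, he', Category.assoc, Category.assoc, hb₀])
  let u : Over.mk x ⟶ (Over.map x).obj (𝟙_ (Over (Spec (CommRingCat.of C)))) := Over.homMk (𝟙 _) (by
    simp only [Over.map_obj_hom, Over.mk_hom]
    erw [Category.id_comp, Category.id_comp])
  refine ⟨u ≫ (bcEquiv x _ G).symm w, ?_, ?_⟩
  · have h5 := congr((bcEquiv x _ G).symm $(hw1 (C ⧸ I) (fun i hi => Ideal.Quotient.eq_zero_iff_mem.mpr hi)))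
    rw [← bcEquiv_symm_naturality, map_one] at h5
    let e : Over.mk (Spec.map (CommRingCat.ofHom (Ideal.Quotient.mk I)) ≫ x) ⟶ (Over.map x).obj (pt C (C ⧸ I)) :=
      Over.homMk (𝟙 _) (Category.id_comp _)
    have h6 : redMap x I ≫ u = e ≫ (Over.map x).map (toUnit (pt C (C ⧸ I))) := by
      ext1
      simp only [redMap, u, e, Over.comp_left, Over.homMk_left, Over.map_map_left, Over.toUnit_left]
      erw [Category.id_comp, Category.comp_id]
      rfl
    rw [← Category.assoc, h6, Category.assoc, h5, comp_one]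
  · intro T q t
    let T' : Over (Spec (CommRingCat.of C)) := Over.mk t.left
    let e : T ⟶ (Over.map x).obj T' := Over.homMk (𝟙 _) (by
      simp only [T', Over.map_obj_hom, Over.mk_hom]
      erw [Category.id_comp]
      exact Over.w t)
    let q' : T' ⟶ Red.DS (Spec (CommRingCat.of C)) M := dsEquiv T' M (dsChar q : Multiplicative M →* Γ(T.left, ⊤))
    have h1 : e ≫ tr x q' = q := by
      unfold tr
      rw [dsEquiv_naturality, dsChar_dsEquiv]
      refine Eq.trans ?_ (dsEquiv_dsChar q)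
      congr 1
    have h2 : e ≫ st x T' = t := by
      ext1
      simp [e, st, T']
    obtain ⟨b, hb⟩ := hw2 T' q'
    have h3 := congr(e ≫ (bcEquiv x T' G).symm $hb)
    have h4 : e ≫ (Over.map x).map (toUnit T') = t ≫ u := by
      ext1
      simp [e, u, T']
    have h5 : (bcEquiv x T' G).symm (b ≫ (Over.pullback x).map h) = (bcEquiv x T' H).symm b ≫ h := by
      rw [MulEquiv.symm_apply_eq, ← bcEquiv_comp, MulEquiv.apply_symm_apply]
    simp only [map_mul, map_inv, comp_famHom, MulEquiv.symm_apply_apply, comp_mul, comp_inv, comp_lift_assoc, h1, h2,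
      h5] at h3
    refine ⟨e ≫ (bcEquiv x T' H).symm b, ?_⟩
    rw [Category.assoc, h3, ← bcEquiv_symm_naturality, ← Category.assoc e, h4, Category.assoc]

/-- Over a local base the hypotheses on neighbourhoods of the unit are automatic. -/
theorem transp_family_local [IsLocalRing C] (I : Ideal C) (hI : I * I = ⊥) [IsSeparated G.hom] [Smooth H.hom]
    (h : H ⟶ G) [IsMonHom h] [Mono h] (a : Red.DS S M ⊗ Over.mk x ⟶ G)
    (ha : AutFam.IsHomFamily (Red.DS S M) G a)
    (hab : ∃ b, b ≫ h = (Red.DS S M ◁ redMap x I) ≫ a) :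
    ∃ w : Over.mk x ⟶ G, redMap x I ≫ w = 1 ∧ ∀ (T : Over S) (q : T ⟶ Red.DS S M) (t : T ⟶ Over.mk x),
      ∃ b : T ⟶ H, b ≫ h = (t ≫ w)⁻¹ * (lift q t ≫ a) * (t ≫ w) :=
  transp_family x G H I hI (LocalLift.hasAffineUnitNhd_of_isLocalRing _)
    (LocalLift.hasAffineUnitNhd_of_isLocalRing _) h a ha hab

end Groth.Agent.Sga3.H799.TranspFam
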