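import Groth.Agent.Sga3.H799.Cart
import Groth.Agent.Sga3.H799.Ev
import Groth.Agent.Sga3.H799.TranspFam

/-!
# The transporter of a maximal torus into (the neutral component of) a Cartan subgroup

`c : C ⟶ G` Cartan subgroup, `c₀ : C₀ ⟶ C` an open subgroup with geometrically irreducible fibres,
`i : T ⟶ G` a maximal torus: `{g : g T g⁻¹ commutes with C₀}` is represented by a closed subscheme of `G`,
smooth and surjective over `S`, and over it `g T g⁻¹` is contained in `C₀`.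
-/

set_option autoImplicit false
universe u
open CategoryTheory MonoidalCategory CartesianMonoidalCategory MonObj GrpObj AlgebraicGeometry Limits

namespace Groth.Agent.Sga3.H799.Transp

open Groth.Agent.Sga3B Groth.Agent.Sga3B.BcPts Groth.Agent.Sga3.H799.Bc Groth.Agent.Sga3.H799.Ev
open Groth.Agent.Sga3.H798.SubTorus (ev_map)
open Groth.Agent.Sga3B.InfConjFam (redMap)

variable {S S' : Scheme.{u}}

/-- A conjugate of a maximal torus is a maximal torus. -/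
theorem isMaximalTorus_conj {T G : Over S} [GrpObj T] [GrpObj G] {i : T ⟶ G} (hi : Red.IsMaximalTorus i)
    (g : 𝟙_ (Over S) ⟶ G) : Red.IsMaximalTorus (i ≫ conj g) := by
  have h : IsMonHom (asIso (conj g)).hom := isMonHom_conj g
  refine AlgBc.isMaximalTorus_of_arrow (Iso.refl (Grp.mk T)) (Grp.mkIso' (asIso (conj g))) ?_ hi
  change i ≫ conj g = 𝟙 T ≫ i ≫ conj g
  rw [Category.id_comp]

lemma ev_conjBc {f : S' ⟶ S} {T G : Over S} [GrpObj G] (i : T ⟶ G) (g : Over.mk f ⟶ G) {A : Over S}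
    (x : A ⟶ T) (k : A ⟶ Over.mk f) :
    ev ((Over.pullback f).map i ≫ conj (pt g)) x k = (k ≫ g) * (x ≫ i) * (k ≫ g)⁻¹ := by
  rw [← ev_comp, ev_map, ev_conj]

variable {G C C₀ T : Over S} [GrpObj G] [GrpObj C] [GrpObj C₀] [GrpObj T] [Smooth G.hom] [IsSeparated G.hom]

/-- `(E1)` for conjugates by a point. -/
theorem factor_of_comm (f : S' ⟶ S) (c : C ⟶ G) (hc : SGA3x.IsCartan c) (c₀ : C₀ ⟶ C)
    [IsMonHom c₀] [IsOpenImmersion c₀.left] (i : T ⟶ G) (hi : Red.IsMaximalTorus i) (g : Over.mk f ⟶ G)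
    (h : ∀ (X : Over S) (k : X ⟶ Over.mk f) (t : X ⟶ T) (d : X ⟶ C₀),
      ((k ≫ g) * (t ≫ i) * (k ≫ g)⁻¹) * (d ≫ c₀ ≫ c) = (d ≫ c₀ ≫ c) * ((k ≫ g) * (t ≫ i) * (k ≫ g)⁻¹)) :
    ∀ (X : Over S) (k : X ⟶ Over.mk f) (t : X ⟶ T), ∃ b : X ⟶ C₀,
      b ≫ c₀ ≫ c = (k ≫ g) * (t ≫ i) * (k ≫ g)⁻¹ := by
  have hc₀ : IsOpenImmersion ((Over.pullback f).map c₀).left :=
    MorphismProperty.of_isPullback (Parab.FibIsoSch.isPullback_map_left f c₀) inferInstance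
  have h1 := Cart.exists_factor_open ((Over.pullback f).map c) (isCartan_bc f hc) ((Over.pullback f).map c₀)
    ((Over.pullback f).map i ≫ conj (pt g)) (isMaximalTorus_conj (isMaximalTorus_bc f hi) (pt g)) (by
      rw [← Functor.map_comp, bc_mul_comm_iff]
      intro A x z k
      rw [ev_conjBc, ev_map]
      exact h A k x z)
  rw [← Functor.map_comp, exists_factor_iff] at h1
  intro X k t
  obtain ⟨b, hb⟩ := h1 X t k
  exact ⟨b, by rw [hb, ev_conjBc]⟩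

/-- A conjugate of `T` contained in `C` commutes with `C`. -/
theorem comm_of_factor (f : S' ⟶ S) (c : C ⟶ G) (hc : SGA3x.IsCartan c) (i : T ⟶ G)
    (hi : Red.IsMaximalTorus i) (g : Over.mk f ⟶ G)
    (h : ∀ (X : Over S) (k : X ⟶ Over.mk f) (t : X ⟶ T), ∃ b : X ⟶ C,
      b ≫ c = (k ≫ g) * (t ≫ i) * (k ≫ g)⁻¹) :
    ∀ (X : Over S) (k : X ⟶ Over.mk f) (t : X ⟶ T) (d : X ⟶ C),
      ((k ≫ g) * (t ≫ i) * (k ≫ g)⁻¹) * (d ≫ c) = (d ≫ c) * ((k ≫ g) * (t ≫ i) * (k ≫ g)⁻¹) := by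
  obtain ⟨t', ht'⟩ := (exists_factor_iff ((Over.pullback f).map i ≫ conj (pt g)) c).2 (by
    intro A x k
    obtain ⟨b, hb⟩ := h A k x
    exact ⟨b, by rw [hb, ev_conjBc]⟩)
  have h2 := Cart.isCentralizerOf_of_factor ((Over.pullback f).map c) (isCartan_bc f hc)
    ((Over.pullback f).map i ≫ conj (pt g)) (isMaximalTorus_conj (isMaximalTorus_bc f hi) (pt g)) t' ht'
  have h3 : ∀ (A : Over S') (x : A ⟶ Red.bc f T) (z : A ⟶ Red.bc f C),
      (x ≫ (Over.pullback f).map i ≫ conj (pt g)) * (z ≫ (Over.pullback f).map c) =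
        (z ≫ (Over.pullback f).map c) * (x ≫ (Over.pullback f).map i ≫ conj (pt g)) := by
    intro A x z
    have h4 := (h2.2.2 A (z ≫ (Over.pullback f).map c)).1 ⟨z, rfl⟩ A (𝟙 A) x
    rw [Category.id_comp] at h4
    exact h4.symm
  intro X k t d
  have h5 := (bc_mul_comm_iff _ _).1 h3 X t d k
  rwa [ev_conjBc, ev_map] at h5

section Rep

omit [GrpObj C₀] [GrpObj T] [Smooth G.hom] [IsSeparated G.hom] in
/-- The points `g` such that `g T g⁻¹` commutes with `C₀`. -/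
def trSet (i : T ⟶ G) (m : C₀ ⟶ G) (X : Over S) : Set (X ⟶ G) :=
  {g | ∀ (X' : Over S) (x : X' ⟶ X) (t : X' ⟶ T) (d : X' ⟶ C₀),
    ((x ≫ g) * (t ≫ i) * (x ≫ g)⁻¹) * (d ≫ m) = (d ≫ m) * ((x ≫ g) * (t ≫ i) * (x ≫ g)⁻¹)}

lemma geometricallyIrreducible_tensor (X Y : Over S) [Smooth X.hom] [Smooth Y.hom]
    [GeometricallyIrreducible X.hom] [GeometricallyIrreducible Y.hom] :
    GeometricallyIrreducible (X ⊗ Y).hom := by
  have : (X ⊗ Y).hom = pullback.fst X.hom Y.hom ≫ X.hom := by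
    exact (Over.w (fst X Y)).symm
  rw [this]
  exact GeometricallyIrreducible.comp _ _

lemma smooth_tensor (X Y : Over S) [Smooth X.hom] [Smooth Y.hom] : Smooth (X ⊗ Y).hom := by
  have : (X ⊗ Y).hom = pullback.fst X.hom Y.hom ≫ X.hom := by
    exact (Over.w (fst X Y)).symm
  rw [this]
  infer_instance

omit [GrpObj C₀] [GrpObj T] in
theorem exists_rep (i : T ⟶ G) (m : C₀ ⟶ G) [Smooth T.hom] [GeometricallyIrreducible T.hom]
    [Smooth C₀.hom] [GeometricallyIrreducible C₀.hom] :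
    ∃ (P : Over S) (p : P ⟶ G), IsClosedImmersion p.left ∧ LocallyOfFinitePresentation p.left ∧
      ∀ (X : Over S) (g : X ⟶ G), (∃ a : X ⟶ P, a ≫ p = g) ↔ g ∈ trSet i m X := by
  have h1 : IsClosedImmersion η[G].left := (S0346.result S G).1.mp inferInstance
  have := geometricallyIrreducible_tensor T C₀
  have := smooth_tensor T C₀
  let a : G ⊗ (T ⊗ C₀) ⟶ G := fst _ _ * (snd _ _ ≫ fst _ _ ≫ i) * (fst _ _)⁻¹
  let e : G ⊗ (T ⊗ C₀) ⟶ G := snd _ _ ≫ snd _ _ ≫ m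
  obtain ⟨P, p, hp, huniv, hfp⟩ := CentRep.exists_closed_map (X := G) (Q := T ⊗ C₀)
    (a * e * a⁻¹ * e⁻¹) η[G]
  refine ⟨P, p, hp, hfp CentRep.locallyOfFinitePresentation_one, fun X g => ?_⟩
  rw [huniv]
  have key : ∀ (X' : Over S) (x : X' ⟶ X) (t : X' ⟶ T) (d : X' ⟶ C₀),
      (∃ b : X' ⟶ 𝟙_ (Over S), b ≫ η[G] = lift (x ≫ g) (lift t d) ≫ (a * e * a⁻¹ * e⁻¹)) ↔
      ((x ≫ g) * (t ≫ i) * (x ≫ g)⁻¹) * (d ≫ m) = (d ≫ m) * ((x ≫ g) * (t ≫ i) * (x ≫ g)⁻¹) := by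
    intro X' x t d
    have e1 : lift (x ≫ g) (lift t d) ≫ (a * e * a⁻¹ * e⁻¹) =
        ((x ≫ g) * (t ≫ i) * (x ≫ g)⁻¹) * (d ≫ m) * ((x ≫ g) * (t ≫ i) * (x ≫ g)⁻¹)⁻¹ * (d ≫ m)⁻¹ := by
      simp only [a, e, MonObj.comp_mul, GrpObj.comp_inv, lift_fst, lift_snd_assoc, lift_fst_assoc]
    rw [e1]
    constructor
    · rintro ⟨b, hb⟩
      have e2 : b ≫ η[G] = 1 := by rw [one_eq_one, MonObj.comp_one]
      rw [e2, eq_comm, mul_inv_eq_one, mul_inv_eq_iff_eq_mul] at hb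
      exact hb
    · intro h
      refine ⟨toUnit _, ?_⟩
      have e2 : toUnit X' ≫ η[G] = 1 := by rw [one_eq_one, MonObj.comp_one]
      rw [e2, eq_comm, mul_inv_eq_one, mul_inv_eq_iff_eq_mul]
      exact h
  constructor
  · intro h X' x t d
    exact (key X' x t d).1 (h X' x (lift t d))
  · intro h X' x q
    have h2 : q = lift (q ≫ fst _ _) (q ≫ snd _ _) := by
      rw [← comp_lift, lift_fst_snd, Category.comp_id]
    rw [h2]
    exact (key X' x _ _).2 (h X' x _ _)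

end Rep

section Smooth

/-- The transporter is smooth. -/
theorem smooth_rep (c : C ⟶ G) (hc : SGA3x.IsCartan c) (c₀ : C₀ ⟶ C) [IsMonHom c₀]
    [IsOpenImmersion c₀.left] (i : T ⟶ G) (hi : Red.IsMaximalTorus i) {P : Over S} (p : P ⟶ G)
    [IsClosedImmersion p.left] [LocallyOfFinitePresentation p.left]
    (hP : ∀ (X : Over S) (g : X ⟶ G), (∃ a : X ⟶ P, a ≫ p = g) ↔ g ∈ trSet i (c₀ ≫ c) X) :
    Smooth P.hom := by
  have hci := hc.1
  have hcm := hc.2.1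
  have hcs := hc.2.2.1
  have hii := hi.1
  have him := hi.2.1
  have hm0 : Mono c₀ := Over.mono_of_mono_left c₀
  have hpm : Mono p := Over.mono_of_mono_left p
  have hsm : Smooth C₀.hom := by
    rw [← Over.w c₀]
    infer_instance
  obtain ⟨S', f, hf, hs, hcov, h⟩ := hi.2.2.1
  refine CentSmooth.smooth_of_lift p (trSet i (c₀ ≫ c)) hP f hcov fun s' => ?_
  obtain ⟨U, hU, r, hr⟩ := h s'
  refine ⟨U, hU, fun B _ _ I hI x β hx g₁ hg₁ => ?_⟩
  have hQ : Red.IsSplitTorusWith (Fin r → ℤ) (Red.bc x T) := by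
    rw [hx]
    exact CentSmooth.isSplit_bc _ β hr
  obtain ⟨e, he, ψ, hψ1, hψ2⟩ := CentLift.exists_isIsoFamily x hQ
  let a : Red.DS S (Fin r → ℤ) ⊗ Over.mk x ⟶ G := (snd _ _ ≫ g₁) * (e ≫ i) * (snd _ _ ≫ g₁)⁻¹
  have ha' : ∀ (A : Over S) (d : A ⟶ Red.DS S (Fin r → ℤ)) (t : A ⟶ Over.mk x),
      lift d t ≫ a = (t ≫ g₁) * ((lift d t ≫ e) ≫ i) * (t ≫ g₁)⁻¹ := by
    intro A d t
    simp only [a, MonObj.comp_mul, GrpObj.comp_inv, lift_snd_assoc, Category.assoc]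
  have ha : AutFam.IsHomFamily (Red.DS S (Fin r → ℤ)) G a := by
    intro A d₁ d₂ t
    rw [ha', ha', ha', he, MonObj.mul_comp]
    group
  have hE := factor_of_comm (Spec.map (CommRingCat.ofHom (Ideal.Quotient.mk I)) ≫ x) c hc c₀ i hi
    (redMap x I ≫ g₁) (fun X k t d => by
      have := hg₁ X k t d
      exact this)
  obtain ⟨w, hw1, hw2⟩ := TranspFam.transp_family_local x G C₀ I hI (c₀ ≫ c) a ha (by
    obtain ⟨b, hb⟩ := hE (Red.DS S (Fin r → ℤ) ⊗ Over.mk (Spec.map (CommRingCat.ofHom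
      (Ideal.Quotient.mk I)) ≫ x)) (snd _ _) ((Red.DS S (Fin r → ℤ) ◁ redMap x I) ≫ e)
    refine ⟨b, ?_⟩
    rw [hb]
    simp only [a, MonObj.comp_mul, GrpObj.comp_inv, whiskerLeft_snd_assoc, Category.assoc])
  refine ⟨w, hw1, ?_⟩
  intro X k t d
  have h2 := comm_of_factor x c hc i hi (w⁻¹ * g₁) (by
    intro X k t
    obtain ⟨b, hb⟩ := hw2 X (lift t k ≫ ψ) k
    refine ⟨b ≫ c₀, ?_⟩
    rw [Category.assoc, hb, ha', hψ2]
    simp only [MonObj.comp_mul, GrpObj.comp_inv]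
    group) X k t (d ≫ c₀)
  rw [Category.assoc] at h2
  exact h2

end Smooth

end Groth.Agent.Sga3.H799.Transp
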