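import Groth.Agent.Sga3B.InfConjFam
import Groth.Agent.Flat2H.FSSmoothHom

/-!
# Infinitesimal lifting for transporters of a diagonalisable group into a smooth subgroup

* `transp_base` : `I` a square-zero ideal of `C`, `h : H ⟶ G` a monomorphic homomorphism of group schemes over
  `Spec C` with `H` smooth and `G` separated, `a : D(M) ⟶ G` a homomorphism which factors through `H` modulo `I`.
  Then there is a point `w` of `G(C)`, trivial modulo `I`, such that `w⁻¹ a w` factors through `H`.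
* `transp_family` : the same for a family of homomorphisms parametrised by an affine `S`-scheme.
-/

set_option autoImplicit false
universe u
open CategoryTheory MonoidalCategory CartesianMonoidalCategory MonObj GrpObj AlgebraicGeometry Limits

namespace Groth.Agent.Sga3.H799.TranspLift

open Groth.Agent.Sga3B Groth.Agent.Sga3B.DSPts Groth.Agent.Sga3B.InfConj Groth.Agent.Sga3B.InfConjFam

section base

variable {C : Type u} [CommRing C]

lemma exists_smooth_lift (H : Over (Spec (CommRingCat.of C))) [Smooth H.hom] {E : Type u} [CommRing E]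
    [Algebra C E] (J : Ideal E) (hJ : J * J = ⊥) (b₀ : pt C (E ⧸ J) ⟶ H) :
    ∃ j : pt C E ⟶ H, ptMap (Ideal.Quotient.mkₐ C J) ≫ j = b₀ := by
  obtain ⟨l, hl1, hl2⟩ := Flat2H.FSSmoothHom.isFormallySmoothHom_of_smooth H.hom E J (by rw [pow_two, hJ])
    b₀.left (pt C E).hom (by
      have h1 := Over.w b₀
      rw [h1]
      change Spec.map _ ≫ Spec.map _ = Spec.map _
      rw [← Spec.map_comp, ← CommRingCat.ofHom_comp])
  refine ⟨Over.homMk l hl2, ?_⟩
  ext1
  exact hl1

/-- restriction of scalars for the subalgebra `A₂` -/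
lemma exists_lift_A₂ {M : Type} [AddCommGroup M] (I : Ideal C) (hI : I * I = ⊥)
    (H : Over (Spec (CommRingCat.of C))) [GrpObj H] (hU : HasAffineUnitNhd H)
    (x : pt C (MonoidAlgebra (MonoidAlgebra C (Multiplicative M)) (Multiplicative M)) ⟶ H)
    (hx : ptMap (Ideal.Quotient.mkₐ C (extIdeal (Multiplicative M) (extIdeal (Multiplicative M) I))) ≫ x = 1) :
    ∃ y : pt C (A₂ (Γ := Multiplicative M) I) ⟶ H, pVal₂ (Multiplicative M) I ≫ y = x := by
  obtain ⟨D, j, hj, hj'⟩ := hU
  obtain ⟨y, hy, -⟩ := exists_lift H D j hj' (extIdeal (Multiplicative M) (extIdeal (Multiplicative M) I))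
    (extIdeal_mul _ _ _ (extIdeal_mul _ _ _ hI)) x hx ((A₂ (Γ := Multiplicative M) I).restrictScalars C) (by
      intro c e he
      refine ⟨algebraMap C _ c, ?_⟩
      rwa [← IsScalarTower.algebraMap_apply])
  exact ⟨y, hy⟩

/-- **Infinitesimal transporter, base form.** -/
theorem transp_base (I : Ideal C) (hI : I * I = ⊥) (M : Type) [AddCommGroup M]
    (G H : Over (Spec (CommRingCat.of C))) [GrpObj G] [GrpObj H] [IsSeparated G.hom] [Smooth H.hom]
    (hUG : HasAffineUnitNhd G) (hUH : HasAffineUnitNhd H) (h : H ⟶ G) [IsMonHom h] [Mono h]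
    (a : Red.DS (Spec (CommRingCat.of C)) M ⟶ G) [IsMonHom a]
    (hab : ∀ (E : Type u) [CommRing E] [Algebra C E] (q : pt C E ⟶ Red.DS (Spec (CommRingCat.of C)) M),
      (∀ i ∈ I, algebraMap C E i = 0) → ∃ b : pt C E ⟶ H, b ≫ h = q ≫ a) :
    ∃ w : 𝟙_ (Over (Spec (CommRingCat.of C))) ⟶ G,
      (∀ (E : Type u) [CommRing E] [Algebra C E], (∀ i ∈ I, algebraMap C E i = 0) →
        toUnit (pt C E) ≫ w = 1) ∧
      ∀ (T : Over (Spec (CommRingCat.of C))) (q : T ⟶ Red.DS (Spec (CommRingCat.of C)) M),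
        ∃ b : T ⟶ H, b ≫ h = (toUnit T ≫ w)⁻¹ * (q ≫ a) * (toUnit T ≫ w) := by
  obtain ⟨D, j, hj, hj'⟩ := hUG
  have hJ := extIdeal_mul C (Multiplicative M) I hI
  let q := univPt C M
  -- reduction of `a` modulo `I`, lifted to a morphism into `H`
  obtain ⟨b₀, hb₀⟩ := hab _ (ptMap (Ideal.Quotient.mkₐ C (extIdeal (Multiplicative M) I)) ≫ q) (by
    intro i hi
    rw [IsScalarTower.algebraMap_apply C (MonoidAlgebra C (Multiplicative M))]
    exact Ideal.Quotient.eq_zero_iff_mem.mpr (Ideal.mem_map_of_mem _ hi))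
  obtain ⟨jm, hjm⟩ := exists_smooth_lift H _ hJ b₀
  let c := (q ≫ a) * (jm ≫ h)⁻¹
  have hc : ptMap (Ideal.Quotient.mkₐ C (extIdeal (Multiplicative M) I)) ≫ c = 1 := by
    rw [comp_mul, comp_inv, ← Category.assoc, ← Category.assoc, hjm, hb₀, mul_inv_cancel]
  obtain ⟨cA, hcA, hcA'⟩ := exists_lift G D j hj' (extIdeal (Multiplicative M) I) hJ c hc (A₁ I) (fun c e h => ⟨c, h⟩)
  replace hcA : pVal₁ (Multiplicative M) I ≫ cA = c := hcA
  have h4 := ptMap_dg_univPt (C := C) M
  change ptMap (dg C (Multiplicative M)) ≫ q = (ptMap (inc₁ C _) ≫ q) * (ptMap (inc₂ C _) ≫ q) at h4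
  -- the defect of multiplicativity
  let ε := (ptMap (inc₁ C (Multiplicative M)) ≫ jm) * (ptMap (inc₂ C (Multiplicative M)) ≫ jm) *
    (ptMap (dg C (Multiplicative M)) ≫ jm)⁻¹
  have hε : ptMap (Ideal.Quotient.mkₐ C (extIdeal (Multiplicative M) (extIdeal (Multiplicative M) I))) ≫ ε = 1 := by
    have key : ∀ (φ : MonoidAlgebra C (Multiplicative M) →ₐ[C]
        MonoidAlgebra (MonoidAlgebra C (Multiplicative M)) (Multiplicative M)),
        (∀ i ∈ extIdeal (Multiplicative M) I, φ i ∈ extIdeal (Multiplicative M) (extIdeal (Multiplicative M) I)) →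
        (ptMap (Ideal.Quotient.mkₐ C (extIdeal (Multiplicative M) (extIdeal (Multiplicative M) I))) ≫
          ptMap φ ≫ jm) ≫ h =
        ptMap (Ideal.Quotient.mkₐ C (extIdeal (Multiplicative M) (extIdeal (Multiplicative M) I))) ≫
          ptMap φ ≫ q ≫ a := by
      intro φ hφ
      let ψ : (MonoidAlgebra C (Multiplicative M) ⧸ extIdeal (Multiplicative M) I) →ₐ[C]
          (MonoidAlgebra (MonoidAlgebra C (Multiplicative M)) (Multiplicative M) ⧸
            extIdeal (Multiplicative M) (extIdeal (Multiplicative M) I)) :=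
        Ideal.Quotient.liftₐ _ ((Ideal.Quotient.mkₐ C _).comp φ) (by
          intro i hi
          exact Ideal.Quotient.eq_zero_iff_mem.mpr (hφ i hi))
      have hψ : (Ideal.Quotient.mkₐ C (extIdeal (Multiplicative M) (extIdeal (Multiplicative M) I))).comp φ =
          ψ.comp (Ideal.Quotient.mkₐ C (extIdeal (Multiplicative M) I)) := by
        exact AlgHom.ext fun i => rfl
      have h5 : ptMap (Ideal.Quotient.mkₐ C (extIdeal (Multiplicative M) (extIdeal (Multiplicative M) I))) ≫ ptMap φ =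
          ptMap ψ ≫ ptMap (Ideal.Quotient.mkₐ C (extIdeal (Multiplicative M) I)) := by
        rw [ptMap_comp, ptMap_comp, hψ]
      rw [reassoc_of% h5, reassoc_of% h5, hjm, Category.assoc, hb₀, Category.assoc]
    rw [← cancel_mono h, MonObj.one_comp]
    simp only [ε, comp_mul, comp_inv, MonObj.mul_comp, GrpObj.inv_comp]
    rw [key _ (fun i hi => Ideal.mem_map_of_mem _ hi), key _ (fun i hi => inc₂_mem hi),
      key _ (fun i hi => dg_mem hi)]
    rw [reassoc_of% h4, MonObj.mul_comp, comp_mul, Category.assoc, Category.assoc]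
    group
  obtain ⟨εA, hεA⟩ := exists_lift_A₂ I hI H hUH ε hε
  have hA₂ : Function.Injective (valA₂ (Γ := Multiplicative M) I) := Subtype.val_injective
  have key : pDgA (Multiplicative M) I ≫ cA = (pInc₁A (Multiplicative M) I ≫ c) *
      (pInc₁A (Multiplicative M) I ≫ jm ≫ h) * (pInc₂A (Multiplicative M) I ≫ cA) *
      (pInc₁A (Multiplicative M) I ≫ jm ≫ h)⁻¹ * (εA ≫ h) := by
    ext1
    refine ext_of_ker_eq_bot G.hom ((Over.w _).trans (Over.w _).symm) (pVal₂ (Multiplicative M) I).left (ker_specMap _ hA₂) ?_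
    rw [← Over.comp_left, ← Over.comp_left]
    congr 1
    simp only [comp_mul, comp_inv, pVal₂_pDgA_assoc, pVal₂_pInc₂A_assoc, pVal₂_pInc₁A_assoc, hcA, c]
    rw [← Category.assoc _ εA h, hεA]
    simp only [ε, MonObj.mul_comp, GrpObj.inv_comp]
    simp only [← Category.assoc]
    rw [h4]
    simp only [MonObj.mul_comp, Category.assoc]
    group
  let w₀ : pt C C ⟶ G := pAvg (Multiplicative M) I hI ≫ cA
  let W : pt C (MonoidAlgebra C (Multiplicative M)) ⟶ G :=
    ptMap (Algebra.ofId C (MonoidAlgebra C (Multiplicative M))) ≫ w₀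
  let ε' := pAvg₂ (Multiplicative M) I hI ≫ εA
  have hW : (ε'⁻¹ * jm) ≫ h = W⁻¹ * (q ≫ a) * W := by
    have h5 := congr(pAvg₂ (Multiplicative M) I hI ≫ $key)
    simp only [comp_mul, comp_inv, pAvg₂_pDgA_assoc, pAvg₂_pInc₂A_assoc, pAvg₂_pInc₁A_assoc] at h5
    change W = c * (jm ≫ h) * W * (jm ≫ h)⁻¹ * (ε' ≫ h) at h5
    have h6 : W * (ε' ≫ h)⁻¹ * (jm ≫ h) = (q ≫ a) * W := by
      conv_lhs => rw [h5]
      simp only [c]
      group
    rw [_root_.mul_assoc, ← h6]
    rw [MonObj.mul_comp, GrpObj.inv_comp]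
    group
  let u : 𝟙_ (Over (Spec (CommRingCat.of C))) ⟶ pt C C := Over.homMk (𝟙 _) (by
    simp only [Over.mk_hom]
    erw [Category.id_comp]
    exact Spec.map_id _)
  refine ⟨u ≫ w₀, ?_, ?_⟩
  · intro E _ _ hE
    have h7 : toUnit (pt C E) ≫ u = ptMap (Algebra.ofId C E) := pt_self_hom_ext _ _
    rw [← Category.assoc, h7]
    have h8 : ptMap (Algebra.ofId C E) ≫ pAvg (Multiplicative M) I hI =
      ptMap (E := A₁ (Γ := Multiplicative M) I) (E' := E) ((Algebra.ofId C E).comp (avg C (Multiplicative M) I hI)) := by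
      rw [pAvg, ptMap_comp]
    rw [← Category.assoc, h8]
    apply hcA'
    intro r e he
    have h9 := hE _ (avg_sub_mem I hI e r he)
    rw [map_sub, sub_eq_zero] at h9
    exact h9
  · intro T q'
    obtain ⟨t, rfl⟩ := exists_eq_comp_charPt q'
    have h11 : t ≫ ptMap (Algebra.ofId C (MonoidAlgebra C (Multiplicative M))) = toUnit T ≫ u :=
      pt_self_hom_ext (C := C) _ _
    have h10 : t ≫ W = toUnit T ≫ u ≫ w₀ := by
      change t ≫ ptMap (Algebra.ofId C (MonoidAlgebra C (Multiplicative M))) ≫ w₀ = _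
      rw [← Category.assoc, h11, Category.assoc]
    refine ⟨t ≫ (ε'⁻¹ * jm), ?_⟩
    rw [Category.assoc, hW, comp_mul, comp_mul, comp_inv, h10, Category.assoc]

end base

end Groth.Agent.Sga3.H799.TranspLift
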